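import Mathlib

/-!
# Arithmetic used for Zassenhaus groups with a 2-group kernel
-/

namespace Cfsg.Lib.ZTGroups

/-- The inequality excluding a kernel of order `q ^ 3`. -/
theorem cube_inequality {q ε α ν : ℝ} (hq : 4 ≤ q) (hε : ε = 1 ∨ ε = -1) (hν : ν = 1 ∨ ν = -1)
    (hα : (α = 0 ∧ ε = 1 ∧ ν = -1) ∨ 1 ≤ α)
    (hle : (q ^ 3 + 1) * ((ε + α) ^ 2 - 1 + q * α ^ 2 + (ε + α * (q + 1) - ν) ^ 2) ≤
      (q - 1) * (ε + α * (q + 1) + q * (ε + α * (q + 1) - ν)) ^ 2) : False := by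
  rcases hα with ⟨rfl, rfl, rfl⟩ | hα
  · nlinarith
  have hε2 : ε * ε = 1 := by rcases hε with rfl | rfl <;> norm_num
  set s := ε + α * (q + 1) with hs
  set L := (ε + α) ^ 2 - 1 + q * α ^ 2 with hL
  have hbr : 0 < (q ^ 2 + 1) * L - (q - 1) * s ^ 2 := by
    have h1 : (q ^ 2 + 1) * L - (q - 1) * s ^ 2 = 2 * α ^ 2 * (q + 1) + 4 * ε * α - q + 1 := by
      rw [hL, hs]
      linear_combination ((q ^ 2 + 1) - (q - 1)) * hε2
    rw [h1]
    rcases hε with rfl | rfl <;> nlinarith [mul_le_mul hα hα zero_le_one (le_trans zero_le_one hα)]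
  have h2 : (q ^ 2 + 1) * ((q ^ 3 + 1) * (L + (s - ν) ^ 2) - (q - 1) * (s + q * (s - ν)) ^ 2) =
      ((q ^ 2 + 1) * (s - ν) - q * (q - 1) * s) ^ 2 + (q ^ 3 + 1) * ((q ^ 2 + 1) * L - (q - 1) * s ^ 2) := by
    ring
  nlinarith [mul_pos (show (0 : ℝ) < q ^ 3 + 1 by positivity) hbr,
    sq_nonneg ((q ^ 2 + 1) * (s - ν) - q * (q - 1) * s),
    mul_nonneg (show (0 : ℝ) ≤ q ^ 2 + 1 by positivity) (sub_nonneg.mpr hle)]

theorem vieta_aux : ∀ N : ℕ, ∀ x y : ℕ, x + y ≤ N → Odd x → Odd y → ∀ k : ℤ,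
    (x : ℤ) ^ 2 + (y : ℤ) ^ 2 - 4 * x - 4 * y + 8 = k * (x * y) → k = 2 := by
  intro N
  induction N with
  | zero => intro x y hxy hx hy; have := hx.pos; omega
  | succ N ih =>
    suffices key : ∀ x y : ℕ, y ≤ x → x + y ≤ N + 1 → Odd x → Odd y → ∀ k : ℤ,
        (x : ℤ) ^ 2 + (y : ℤ) ^ 2 - 4 * x - 4 * y + 8 = k * (x * y) → k = 2 by
      intro x y hxy hx hy k hk
      rcases le_total y x with h | h
      · exact key x y h hxy hx hy k hk
      · exact key y x h (by omega) hy hx k (by linear_combination hk)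
    intro x y hyx hxy hx hy k hk
    have hxpos := hx.pos
    rcases Nat.lt_or_ge y x with hlt | hge
    · rcases Nat.lt_or_ge y 3 with hy3 | hy3
      · obtain rfl : y = 1 := by obtain ⟨j, rfl⟩ := hy; omega
        have hdvd : x ∣ 5 := by
          have : (x : ℤ) ∣ 5 := ⟨k + 4 - x, by linear_combination hk⟩
          exact_mod_cast this
        rcases (Nat.dvd_prime (by norm_num)).mp hdvd with rfl | rfl
        · omega
        · norm_num at hk; omega
      · obtain ⟨x', hx'⟩ : ∃ x' : ℤ, x' = k * y + 4 - x := ⟨_, rfl⟩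
        have hprod : (x : ℤ) * x' = (y : ℤ) ^ 2 - 4 * y + 8 := by rw [hx']; linear_combination -hk
        have hpos : 0 < x' := by
          by_contra hle
          push Not at hle
          nlinarith [mul_nonpos_iff.mpr (Or.inl ⟨Int.natCast_nonneg x, hle⟩)]
        obtain ⟨z, rfl⟩ : ∃ z : ℕ, x' = z := ⟨x'.toNat, by omega⟩
        have hzodd : Odd z := by
          have h1 : Odd ((y : ℤ) ^ 2 - 4 * y + 8) := by
            obtain ⟨j, rfl⟩ := hy
            exact ⟨2 * (j : ℤ) ^ 2 - 2 * j + 2, by push_cast; ring⟩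
          rw [← hprod] at h1
          exact_mod_cast (Int.odd_mul.mp h1).2
        have hzy : z < y := by
          have h1 : ((y : ℤ) + 1) * z ≤ (x : ℤ) * z :=
            mul_le_mul_of_nonneg_right (by exact_mod_cast hlt) (by positivity)
          by_contra hle
          push Not at hle
          have h2 : ((y : ℤ) + 1) * y ≤ ((y : ℤ) + 1) * z :=
            mul_le_mul_of_nonneg_left (by exact_mod_cast hle) (by positivity)
          nlinarith
        exact ih y z (by omega) hy hzodd k (by linear_combination (z : ℤ) * hx' - hprod)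
    · obtain rfl : x = y := by omega
      have hdvd : x ∣ 8 := by
        have : (x : ℤ) ∣ 8 := ⟨k * x - 2 * x + 8, by linear_combination hk⟩
        exact_mod_cast this
      obtain ⟨i, hi, rfl⟩ := (Nat.dvd_prime_pow Nat.prime_two).mp (show x ∣ 2 ^ 3 by norm_num; exact hdvd)
      rcases i with _ | i
      · norm_num at hk; omega
      · exact absurd hx (by rw [Nat.not_odd_iff_even]; exact ⟨2 ^ i, by rw [pow_succ]; ring⟩)

theorem vieta {x y : ℕ} (hx : Odd x) (hy : Odd y)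
    (hdvd : (x : ℤ) * y ∣ (x : ℤ) ^ 2 + (y : ℤ) ^ 2 - 4 * x - 4 * y + 8) :
    (x : ℤ) ^ 2 + (y : ℤ) ^ 2 - 4 * x - 4 * y + 8 = 2 * (x * y) := by
  obtain ⟨k, hk⟩ := hdvd
  have := vieta_aux (x + y) x y le_rfl hx hy k (by linear_combination hk)
  subst this
  linear_combination hk

end Cfsg.Lib.ZTGroups
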