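import Cfsg.Agent.ZTGroups.Pairs
import Cfsg.Agent.ZTGroups.Arith

/-!
# A kernel of order `q ^ 2` forces an odd power of two
-/

set_option linter.unusedSectionVars false
set_option linter.style.haveILetI false

namespace Cfsg.Lib.ZTGroups

open Subgroup MulAction
open Cfsg.Lib.OddChar.Zassenhaus

universe u v

variable {G : Type u} {Ω : Type v} [Group G] [Fintype G] [MulAction G Ω] [Fintype Ω]
  [IsSimpleGroup G] {a b : Ω} {H : Subgroup G} {h e : ℕ}

/-- The elements conjugate to a nontrivial element of a centraliser. -/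
noncomputable def wset [DecidableEq G] (g : G) : Finset G :=
  haveI : DecidablePred fun y : G => y ≠ 1 ∧ ∃ k : G, k⁻¹ * y * k ∈ centralizer ({g} : Set G) :=
    Classical.decPred _
  Finset.univ.filter fun y : G => y ≠ 1 ∧ ∃ k : G, k⁻¹ * y * k ∈ centralizer ({g} : Set G)

theorem mem_wset [DecidableEq G] {g y : G} :
    y ∈ wset g ↔ y ≠ 1 ∧ ∃ k : G, k⁻¹ * y * k ∈ centralizer ({g} : Set G) := by
  simp [wset]

theorem Core.wset_inverted [DecidableEq G] (C : Core a b H h e) {g s y : G} (hg : IsInverted Ω g s)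
    (hy : y ∈ wset g) :
    (∃ t, IsInverted Ω y t) ∧ Nat.card (centralizer ({y} : Set G)) = Nat.card (centralizer ({g} : Set G)) := by
  obtain ⟨hy1, k, hk⟩ := mem_wset.mp hy
  have hne : k⁻¹ * y * k ≠ 1 := fun h' => hy1 (by
    calc y = k * (k⁻¹ * y * k) * k⁻¹ := by group
      _ = 1 := by rw [h']; group)
  have h1 := C.inverted_of_mem hg hk hne
  refine ⟨⟨k * s * k⁻¹, fun c hc => h1.fpf (k⁻¹ • c) ?_, ?_, ?_⟩, ?_⟩
  · rw [mul_smul, mul_smul, smul_inv_smul, hc]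
  · exact (orderOf_injective (MulAut.conj k).toMonoidHom (MulAut.conj k).injective s).trans hg.invol
  · calc k * s * k⁻¹ * y * (k * s * k⁻¹)⁻¹ = k * (s * (k⁻¹ * y * k) * s⁻¹) * k⁻¹ := by group
      _ = y⁻¹ := by rw [h1.inv]; group
  · rw [← C.centralizer_eq hg hk hne]
    refine Nat.card_congr
      { toFun := fun x => ⟨k⁻¹ * x * k, ?_⟩
        invFun := fun x => ⟨k * x * k⁻¹, ?_⟩
        left_inv := fun x => Subtype.ext (by simp [mul_assoc])
        right_inv := fun x => Subtype.ext (by simp [mul_assoc]) }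
    · have hx := mem_centralizer_singleton_iff.mp x.2
      rw [mem_centralizer_singleton_iff]
      calc k⁻¹ * (x : G) * k * (k⁻¹ * y * k) = k⁻¹ * ((x : G) * y) * k := by group
        _ = k⁻¹ * y * k * (k⁻¹ * x * k) := by rw [hx]; group
    · have hx := mem_centralizer_singleton_iff.mp x.2
      rw [mem_centralizer_singleton_iff]
      calc k * (x : G) * k⁻¹ * y = k * ((x : G) * (k⁻¹ * y * k)) * k⁻¹ := by group
        _ = y * (k * x * k⁻¹) := by rw [hx]; group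

theorem Core.wset_card [DecidableEq G] (C : Core a b H h e) {g s : G} (hg : IsInverted Ω g s) :
    (wset g).card * Nat.card (normalizer (centralizer ({g} : Set G) : Set G)) =
      Nat.card G * (Nat.card (centralizer ({g} : Set G)) - 1) := by
  classical
  set A := centralizer ({g} : Set G) with hA
  have hX : (Finset.univ.filter fun x : G => x ∈ A).erase 1 =
      Finset.univ.filter fun x : G => x ∈ A ∧ x ≠ 1 := by
    ext x; simp [and_comm]
  have hmaps : ∀ p ∈ (Finset.univ : Finset G) ×ˢ Finset.univ.filter (fun x : G => x ∈ A ∧ x ≠ 1),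
      p.1 * p.2 * p.1⁻¹ ∈ wset g := by
    intro p hp
    simp only [Finset.mem_product, Finset.mem_filter, Finset.mem_univ, true_and] at hp
    exact mem_wset.mpr ⟨fun h' => hp.2 (conj_eq_one_iff.mp h'), p.1, by simpa [mul_assoc] using hp.1⟩
  have h1 := Finset.card_eq_sum_card_fiberwise hmaps
  rw [Finset.card_product, Finset.card_univ, ← hX, Finset.card_erase_of_mem (by simp [one_mem]),
    ← Fintype.card_subtype, ← Nat.card_eq_fintype_card, ← Nat.card_eq_fintype_card] at h1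
  rw [h1, Finset.sum_congr rfl (g := fun _ => Nat.card (normalizer (A : Set G))) fun y hy => ?_,
    Finset.sum_const, smul_eq_mul]
  obtain ⟨hy1, k₀, hk₀⟩ := mem_wset.mp hy
  have hk₀1 : k₀⁻¹ * y * k₀ ≠ 1 := fun h' => hy1 (by
    calc y = k₀ * (k₀⁻¹ * y * k₀) * k₀⁻¹ := by group
      _ = 1 := by rw [h']; group)
  rw [Nat.card_eq_fintype_card, Fintype.card_subtype]
  refine Finset.card_bij' (fun p _ => k₀⁻¹ * p.1) (fun n _ => (k₀ * n, (k₀ * n)⁻¹ * y * (k₀ * n))) ?_ ?_ ?_ ?_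
  · intro p hp
    simp only [Finset.mem_filter, Finset.mem_product, Finset.mem_erase, Finset.mem_univ, true_and] at hp ⊢
    obtain ⟨⟨-, hpA⟩, hpy⟩ := hp
    set y' := k₀⁻¹ * y * k₀ with hy'
    set n := k₀⁻¹ * p.1 with hn
    have hconj : n * p.2 * n⁻¹ = y' := by rw [hn, hy', ← hpy]; group
    have hp1 : p.2 ≠ 1 := fun h' => hk₀1 (by rw [← hconj, h']; group)
    refine mem_normalizer_fintype fun x hx => ?_
    show n * x * n⁻¹ ∈ A
    have hxp : x * p.2 = p.2 * x := C.centralizer_comm hg hx hpA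
    rw [hA, ← C.centralizer_eq hg hk₀ hk₀1, mem_centralizer_singleton_iff, ← hconj]
    calc n * x * n⁻¹ * (n * p.2 * n⁻¹) = n * (x * p.2) * n⁻¹ := by group
      _ = n * (p.2 * x) * n⁻¹ := by rw [hxp]
      _ = n * p.2 * n⁻¹ * (n * x * n⁻¹) := by group
  · intro n hn
    simp only [Finset.mem_filter, Finset.mem_product, Finset.mem_erase, Finset.mem_univ, true_and] at hn ⊢
    have hmem : (k₀ * n)⁻¹ * y * (k₀ * n) ∈ A := by
      have h2 := (Subgroup.mem_normalizer_iff''.mp hn (k₀⁻¹ * y * k₀)).mp hk₀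
      rwa [show (k₀ * n)⁻¹ * y * (k₀ * n) = n⁻¹ * (k₀⁻¹ * y * k₀) * n by group]
    refine ⟨⟨fun h' => hy1 ?_, hmem⟩, by group⟩
    calc y = (k₀ * n) * ((k₀ * n)⁻¹ * y * (k₀ * n)) * (k₀ * n)⁻¹ := by group
      _ = 1 := by rw [h']; group
  · intro p hp
    simp only [Finset.mem_filter] at hp
    have hpy := hp.2
    simp only [mul_inv_cancel_left]
    refine Prod.ext rfl ?_
    show p.1⁻¹ * y * p.1 = p.2
    rw [← hpy]; group
  · intro n _
    simp

theorem Core.wset_disjoint [DecidableEq G] (C : Core a b H h e) {g₁ s₁ g₂ s₂ : G}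
    (h1 : IsInverted Ω g₁ s₁) (h2 : IsInverted Ω g₂ s₂) (hne : g₂ ∉ wset g₁) :
    Disjoint (wset g₁) (wset g₂) ∧
      (Nat.card (centralizer ({g₁} : Set G))).Coprime (Nat.card (centralizer ({g₂} : Set G))) := by
  have key : ∀ x k : G, x ∈ centralizer ({g₁} : Set G) → x ≠ 1 →
      k⁻¹ * x * k ∈ centralizer ({g₂} : Set G) → False := by
    intro x k hx hx1 hxk
    have hxk1 : k⁻¹ * x * k ≠ 1 := fun h' => hx1 (by
      calc x = k * (k⁻¹ * x * k) * k⁻¹ := by group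
        _ = 1 := by rw [h']; group)
    refine hne (mem_wset.mpr ⟨h2.ne_one a, k⁻¹, ?_⟩)
    rw [← C.centralizer_eq h1 hx hx1, mem_centralizer_singleton_iff, inv_inv]
    have hg2 : g₂ ∈ centralizer ({k⁻¹ * x * k} : Set G) := by
      rw [C.centralizer_eq h2 hxk hxk1]; exact mem_centralizer_singleton_iff.mpr rfl
    have hc := mem_centralizer_singleton_iff.mp hg2
    calc k * g₂ * k⁻¹ * x = k * (g₂ * (k⁻¹ * x * k)) * k⁻¹ := by group
      _ = x * (k * g₂ * k⁻¹) := by rw [hc]; group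
  refine ⟨?_, ?_⟩
  · rw [Finset.disjoint_left]
    intro y hy1 hy2
    obtain ⟨hne1, k₁, hk₁⟩ := mem_wset.mp hy1
    obtain ⟨-, k₂, hk₂⟩ := mem_wset.mp hy2
    refine key _ (k₁⁻¹ * k₂) hk₁ (fun h' => hne1 ?_) ?_
    · calc y = k₁ * (k₁⁻¹ * y * k₁) * k₁⁻¹ := by group
        _ = 1 := by rw [h']; group
    · rwa [show (k₁⁻¹ * k₂)⁻¹ * (k₁⁻¹ * y * k₁) * (k₁⁻¹ * k₂) = k₂⁻¹ * y * k₂ by group]
  · refine Nat.coprime_of_dvd fun p hp hp1 hp2 => ?_
    haveI : Fact p.Prime := ⟨hp⟩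
    obtain ⟨P, hP0, hP⟩ := C.sylow_le h1 hp1
    obtain ⟨Q, -, hQ⟩ := C.sylow_le h2 hp2
    obtain ⟨k, hk⟩ := MulAction.exists_smul_eq G P Q
    obtain ⟨x, hx, hx1⟩ := (Subgroup.bot_or_exists_ne_one _).resolve_left hP0
    refine key x k⁻¹ (hP hx) hx1 (hQ ?_)
    rw [← hk, inv_inv]
    show k * x * k⁻¹ ∈ ((k • P : Sylow p G) : Subgroup G)
    rw [Sylow.coe_subgroup_smul, Subgroup.mem_pointwise_smul_iff_inv_smul_mem]
    simpa [MulAut.conj, MulAut.smul_def, mul_assoc] using hx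

set_option maxHeartbeats 1000000 in
theorem Core.odd_exponent (C : Core a b H h e) (hsq : h = (e + 1) ^ 2) {n : ℕ} (hn : e + 1 = 2 ^ n) :
    Odd n := by
  classical
  have he3 := C.e_ge
  have hh2 := two_le C.hZ C.hab C.hh
  obtain ⟨hn2, hn1, hn0⟩ := counts C.hZ C.hab C.hh C.he hh2
  set R := Finset.univ.filter (fun g : G => nfix (Ω := Ω) g = 0) with hR
  set q := e + 1 with hq
  have hG : Nat.card G = (h + 1) * (h * e) := card_group C.hZ C.hab C.hh C.he
  have hGpos : 0 < Nat.card G := Nat.card_pos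
  have hRcard : 2 * R.card * (h + 1) = Nat.card G * (q * e) := by
    rw [hG]
    have h0 : R.card = (Finset.univ.filter fun g : G => nfix (Ω := Ω) g = 0).card := rfl
    rw [← h0] at hn0
    subst hsq
    have hh' : 1 ≤ (q ^ 2 + 1) * q ^ 2 := Nat.one_le_iff_ne_zero.mpr (by positivity)
    zify at hn2 hn1 hn0 ⊢
    push_cast [hq] at hn2 hn1 hn0 ⊢
    linear_combination ((((e : ℤ) + 1) ^ 2) + 1) * (2 * hn0 - hn2 - 2 * hn1)
  have hpairs := C.sum_pairs_free hsq
  rw [← hR, ← hq] at hpairs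
  set S := R.filter fun g => ∃ s, IsInverted Ω g s with hS
  have hfree : ∀ g ∈ R, ∀ c : Ω, g • c ≠ c := fun g hg => nfix_eq_zero.mp (Finset.mem_filter.mp hg).2
  have hSsum : ∑ g ∈ R, pairs g = ∑ g ∈ S, Nat.card (centralizer ({g} : Set G)) := by
    rw [hS, Finset.sum_filter (s := R)]
    refine Finset.sum_congr rfl fun g hg => ?_
    split_ifs with hinv
    · obtain ⟨s, hs⟩ := hinv; exact C.pairs_inverted hs
    · exact C.pairs_not_inverted (hfree g hg) hinv
  have hWS : ∀ {g s : G}, IsInverted Ω g s → wset g ⊆ S := by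
    intro g s hg y hy
    obtain ⟨⟨t, ht⟩, -⟩ := C.wset_inverted hg hy
    exact Finset.mem_filter.mpr ⟨Finset.mem_filter.mpr ⟨Finset.mem_univ _, nfix_eq_zero.mpr ht.fpf⟩, t, ht⟩
  have hWsum : ∀ {g s : G}, IsInverted Ω g s →
      ∑ y ∈ wset g, Nat.card (centralizer ({y} : Set G)) =
        (wset g).card * Nat.card (centralizer ({g} : Set G)) := by
    intro g s hg
    rw [Finset.sum_congr rfl fun y hy => (C.wset_inverted hg hy).2, Finset.sum_const, smul_eq_mul]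
  have hgood : ∀ {g s : G}, IsInverted Ω g s → ∃ A β : ℕ, A = Nat.card (centralizer ({g} : Set G)) ∧
      5 ≤ A ∧ Odd A ∧ A ∣ q ^ 2 + 1 ∧ (β = 2 ∨ β = 4) ∧ (wset g).card * (A * β) + Nat.card G = Nat.card G * A ∧
      Nat.card G * (2 * (4 - β) + 4) ≤ 5 * ((wset g).card * 4) := by
    intro g s hg
    obtain ⟨β, hβ, hN⟩ := C.card_normalizer hsq hg
    have h5 := C.five_le hsq hg
    have hw := C.wset_card hg
    rw [hN] at hw
    refine ⟨_, β, rfl, h5, C.odd_centralizer hg.fpf, hsq ▸ C.centralizer_dvd hg.fpf, hβ, ?_, ?_⟩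
    · rw [hw]
      obtain ⟨A', hA'⟩ : ∃ A', Nat.card (centralizer ({g} : Set G)) = A' + 1 := ⟨_, (Nat.sub_add_cancel (by omega)).symm⟩
      rw [hA', Nat.add_sub_cancel]; ring
    · obtain ⟨A', hA'⟩ : ∃ A', Nat.card (centralizer ({g} : Set G)) = A' + 5 := ⟨_, (Nat.sub_add_cancel h5).symm⟩
      rw [hA', show A' + 5 - 1 = A' + 4 by omega] at hw
      refine Nat.le_of_mul_le_mul_left ?_ (show 0 < A' + 5 by omega)
      rcases hβ with rfl | rfl <;> norm_num at hw ⊢ <;> nlinarith [Nat.zero_le (Nat.card G * A')]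
  have hRlt : 2 * R.card < Nat.card G := by
    have : q * e < h + 1 := by rw [hsq, hq]; nlinarith
    nlinarith [Nat.mul_lt_mul_of_pos_left this hGpos]
  have hSR : S.card ≤ R.card := Finset.card_filter_le _ _
  -- the classes of centralisers
  obtain ⟨g₁, hg₁S⟩ : S.Nonempty := by
    rw [Finset.nonempty_iff_ne_empty]
    intro h0
    rw [hSsum, h0, Finset.sum_empty, mul_zero] at hpairs
    have : 0 < Nat.card G * q := Nat.mul_pos hGpos (by omega)
    omega
  obtain ⟨s₁, hg₁⟩ := (Finset.mem_filter.mp hg₁S).2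
  obtain ⟨A₁, β₁, hA₁, hA₁5, hA₁o, hA₁d, hβ₁, hw₁, hl₁⟩ := hgood hg₁
  by_cases hall : S ⊆ wset g₁
  · exfalso
    rw [hSsum, Finset.Subset.antisymm hall (hWS hg₁), hWsum hg₁, ← hA₁] at hpairs
    have h1 : 2 * (A₁ - 1) = β₁ * q := by
      refine Nat.eq_of_mul_eq_mul_left hGpos ?_
      have h2 : (wset g₁).card * (A₁ * β₁) = Nat.card G * (A₁ - 1) := by
        rw [Nat.mul_sub, mul_one, ← hw₁, Nat.add_sub_cancel]
      calc Nat.card G * (2 * (A₁ - 1)) = 2 * ((wset g₁).card * A₁) * β₁ := by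
            rw [← mul_assoc, mul_comm (Nat.card G) 2, mul_assoc, ← h2]; ring
        _ = Nat.card G * (β₁ * q) := by rw [hpairs]; ring
    have hq4 : 4 ≤ q := by omega
    rcases hβ₁ with rfl | rfl
    · have hA : A₁ = q + 1 := by omega
      subst hA
      have h3 : q + 1 ∣ 2 := by
        obtain ⟨q', hq'⟩ : ∃ q', q = q' + 1 := ⟨e, hq⟩
        have h4 : q ^ 2 + 1 = (q + 1) * q' + 2 := by rw [hq']; ring
        rw [h4] at hA₁d
        exact (Nat.dvd_add_right (dvd_mul_right _ _)).mp hA₁d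
      have := Nat.le_of_dvd (by norm_num) h3
      omega
    · have hA : A₁ = 2 * q + 1 := by omega
      subst hA
      have h3 : 2 * q + 1 ∣ 5 := by
        obtain ⟨q', hq'⟩ : ∃ q', q = q' + 1 := ⟨e, hq⟩
        have h4 : 4 * (q ^ 2 + 1) = (2 * q + 1) * (2 * q' + 1) + 5 := by rw [hq']; ring
        have h5 := hA₁d.mul_left 4
        rw [h4] at h5
        exact (Nat.dvd_add_right (dvd_mul_right _ _)).mp h5
      have := Nat.le_of_dvd (by norm_num) h3
      omega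
  obtain ⟨g₂, hg₂S, hg₂n⟩ := Finset.not_subset.mp hall
  obtain ⟨s₂, hg₂⟩ := (Finset.mem_filter.mp hg₂S).2
  obtain ⟨A₂, β₂, hA₂, hA₂5, hA₂o, hA₂d, hβ₂, hw₂, hl₂⟩ := hgood hg₂
  obtain ⟨hdis, hcop⟩ := C.wset_disjoint hg₁ hg₂ hg₂n
  rw [← hA₁, ← hA₂] at hcop
  have hU : (wset g₁).card + (wset g₂).card ≤ S.card := by
    rw [← Finset.card_union_of_disjoint hdis]
    exact Finset.card_le_card (Finset.union_subset (hWS hg₁) (hWS hg₂))
  obtain ⟨hβ₁', hβ₂'⟩ : β₁ = 4 ∧ β₂ = 4 := by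
    rcases hβ₁ with rfl | rfl <;> rcases hβ₂ with rfl | rfl <;> first | exact ⟨rfl, rfl⟩ | (exfalso; omega)
  subst hβ₁' hβ₂'
  have hall2 : S ⊆ wset g₁ ∪ wset g₂ := by
    intro g₃ hg₃S
    by_contra hn
    rw [Finset.mem_union, not_or] at hn
    obtain ⟨s₃, hg₃⟩ := (Finset.mem_filter.mp hg₃S).2
    obtain ⟨A₃, β₃, -, -, -, -, hβ₃, -, hl₃⟩ := hgood hg₃
    have h1 := (C.wset_disjoint hg₁ hg₃ hn.1).1
    have h2 := (C.wset_disjoint hg₂ hg₃ hn.2).1
    have h3 : (wset g₁).card + (wset g₂).card + (wset g₃).card ≤ S.card := by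
      rw [← Finset.card_union_of_disjoint hdis,
        ← Finset.card_union_of_disjoint (Finset.disjoint_union_left.mpr ⟨h1, h2⟩)]
      exact Finset.card_le_card (Finset.union_subset (Finset.union_subset (hWS hg₁) (hWS hg₂)) (hWS hg₃))
    rcases hβ₃ with rfl | rfl <;> omega
  rw [hSsum, Finset.Subset.antisymm hall2 (Finset.union_subset (hWS hg₁) (hWS hg₂)),
    Finset.sum_union hdis, hWsum hg₁, hWsum hg₂, ← hA₁, ← hA₂] at hpairs
  have hsum : A₁ + A₂ = 2 * q + 2 := by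
    refine Nat.eq_of_mul_eq_mul_left hGpos ?_
    nlinarith
  -- the arithmetic
  have hdvd : A₁ * A₂ ∣ q ^ 2 + 1 := hcop.mul_dvd_of_dvd_of_dvd hA₁d hA₂d
  obtain ⟨k, hk⟩ := hdvd
  have h2q : (A₁ : ℤ) + A₂ = 2 * q + 2 := by exact_mod_cast hsum
  have hkz : (q : ℤ) ^ 2 + 1 = (A₁ : ℤ) * A₂ * k := by exact_mod_cast hk
  have hv := vieta hA₁o hA₂o ⟨4 * (k : ℤ) - 2, by
    linear_combination ((A₁ : ℤ) + A₂ + 2 * q - 2) * h2q + 4 * hkz⟩
  have hsq2 : ((A₁ : ℤ) - A₂) ^ 2 = (2 : ℤ) ^ (n + 3) := by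
    have h8 : (2 : ℤ) ^ (n + 3) = 8 * q := by
      rw [hn]; push_cast; rw [pow_add]; ring
    rw [h8]; linear_combination hv + 4 * h2q
  have h4 : ((A₁ : ℤ) - A₂).natAbs ^ 2 = 2 ^ (n + 3) := by
    have := congrArg Int.natAbs hsq2
    simpa [Int.natAbs_pow] using this
  obtain ⟨t, -, ht⟩ := (Nat.dvd_prime_pow Nat.prime_two).mp (h4 ▸ dvd_pow_self _ two_ne_zero)
  rw [ht, ← pow_mul] at h4
  have h5 := Nat.pow_right_injective (le_refl 2) h4
  exact ⟨t - 2, by omega⟩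

end Cfsg.Lib.ZTGroups
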