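import Cfsg.Agent.ZTGroups.NoCube
import Cfsg.Agent.ZTGroups.Parity
import Cfsg.Agent.RankOne.ZassenhausPSL

/-!
# Zassenhaus groups with a nonabelian kernel of 2-power order
-/

set_option linter.unusedSectionVars false
set_option linter.style.haveILetI false

namespace Cfsg.Lib.ZTGroups

open Subgroup MulAction
open Cfsg.Lib.OddChar.Zassenhaus

universe u v

variable {G : Type u} {Ω : Type v} [Group G] [Finite G] [MulAction G Ω] [Fintype Ω]
  [IsSimpleGroup G] {a b : Ω} {H : Subgroup G} {h e : ℕ}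

/-- The parameters of a core configuration. -/
theorem Core.parameters (C : Core a b H h e) :
    ∃ n : ℕ, Odd n ∧ 1 < n ∧ h = (2 ^ n) ^ 2 ∧ e + 1 = 2 ^ n := by
  classical
  haveI : Fintype G := Fintype.ofFinite _
  obtain ⟨n, hn, hen, hh | hh⟩ := C.orders
  · exact ⟨n, C.odd_exponent (hen ▸ hh) hen, hn, hh, hen⟩
  · exact absurd (hen ▸ hh) C.not_cube

theorem Core.isSuzuki (C : Core a b H h e) : Cfsg.IsSuzuki G := by
  obtain ⟨n, ⟨m, rfl⟩, hn, hh, he⟩ := C.parameters
  refine ⟨inferInstance, m, by omega, ?_⟩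
  rw [card_group C.hZ C.hab C.hh C.he, hh, show e = 2 ^ (2 * m + 1) - 1 from Nat.eq_sub_of_add_eq he]
  ring

theorem Core.isCyclic_E (C : Core a b H h e) : IsCyclic ↥(stab₂ G a b) := by
  haveI : IsMulCommutative ↥(stab₂ G a b) := ⟨⟨fun x y => Subtype.ext (C.comm_E x x.2 y y.2)⟩⟩
  refine (fpf C.hab C.hZ C.hHa C.hHfix).isCyclic_of_comm
    (fun x hx => mem_normalizer_fintype fun u hu => C.normal x hx.1 u hu) fun h' => ?_
  have h1 := C.card_H
  rw [h', Subgroup.card_bot] at h1
  have := two_le C.hZ C.hab C.hh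
  omega

theorem Core.isSuzukiTwoGroup (C : Core a b H h e) : Cfsg.IsSuzukiTwoGroup H := by
  refine ⟨inferInstance, C.p2, C.nab, C.exists_two_invol, autE C, ?_, ?_⟩
  · haveI := C.isCyclic_E
    exact isCyclic_of_surjective (conjH C).rangeRestrict (conjH C).rangeRestrict_surjective
  · intro x y hx hx2 hy hy2
    obtain ⟨k, hk⟩ := C.center_trans ((C.center_iff x).mpr hx2) hx ((C.center_iff y).mpr hy2) hy
    refine ⟨⟨conjH C k, k, rfl⟩, hk, ?_⟩
    rintro ⟨_, l, rfl⟩ hl
    apply Subtype.ext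
    have h1 : conjH C (k⁻¹ * l) x = x := by
      rw [map_mul, MulAut.mul_apply, show conjH C l x = y from hl, ← hk, ← MulAut.mul_apply, ← map_mul,
        inv_mul_cancel, map_one]
      rfl
    by_cases hkl : k⁻¹ * l = 1
    · rw [inv_mul_eq_one.mp hkl]
    · exact absurd (C.conjH_ne hkl h1) hx

/-- The kernel and its properties from a regular subgroup of a point stabiliser. -/
theorem regular_kernel {x y : Ω} (hxy : x ≠ y) (U : Subgroup G) (hU : U ≤ stabilizer G x)
    (hreg : ∀ c d : Ω, c ≠ x → d ≠ x → ∃! u : U, (u : G) • c = d) :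
    Nat.card U + 1 = Fintype.card Ω ∧ ∀ u ∈ U, u ≠ 1 → ∀ c : Ω, u • c = c → c = x := by
  classical
  refine ⟨?_, fun u hu hu1 c hc => ?_⟩
  · have e' : Nat.card U = Nat.card {z : Ω // z ≠ x} := by
      refine Nat.card_eq_of_bijective (fun u : U => (⟨(u : G) • y, fun h => hxy.symm
        (smul_left_cancel (u : G) (h.trans (hU u.2).symm))⟩ : {z : Ω // z ≠ x})) ⟨?_, ?_⟩
      · intro u v huv
        exact (hreg y ((v : G) • y) hxy.symm (fun h => hxy.symm
          (smul_left_cancel (v : G) (h.trans (hU v.2).symm)))).unique (congrArg Subtype.val huv) rfl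
      · intro z
        obtain ⟨u, hu, -⟩ := hreg y z hxy.symm z.2
        exact ⟨u, Subtype.ext hu⟩
    rw [e', Nat.card_eq_fintype_card, Fintype.card_subtype_compl, Fintype.card_subtype_eq]
    have : 0 < Fintype.card Ω := Fintype.card_pos_iff.mpr ⟨x⟩
    omega
  · by_contra hca
    exact hu1 (congrArg Subtype.val ((hreg c c hca hca).unique (y₁ := ⟨u, hu⟩) (y₂ := 1) hc (one_smul G c)))

/-- A nonabelian 2-group kernel gives a core configuration. -/
theorem core_of_kernel (hZ : Cfsg.IsZassenhausGroup G Ω) (hab : a ≠ b) (hHa : H ≤ stabilizer G a)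
    (hHcard : Nat.card H + 1 = Fintype.card Ω) (hHfix : ∀ u ∈ H, u ≠ 1 → ∀ c : Ω, u • c = c → c = a)
    (h2 : IsPGroup 2 H) (hna : ∃ u v : H, u * v ≠ v * u) :
    Core a b H (Nat.card H) (Nat.card (stab₂ G a b)) := by
  refine ⟨hZ, hab, hHcard.symm, rfl, ?_, hHa, hHcard, hHfix, h2, hna⟩
  rw [← Nat.not_even_iff_odd]
  intro heven
  have hle := Cfsg.Lib.RankOne.le_two_mul_of_even hZ hab heven
  have hcomm := (Cfsg.Lib.RankOne.kernel_elementary hZ hab hle hHa hHcard hHfix).1
  obtain ⟨u, v, huv⟩ := hna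
  exact huv (hcomm.is_comm.comm u v)

end Cfsg.Lib.ZTGroups
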