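import Cfsg.Agent.OddChar.Zassenhaus.Coherent
import Cfsg.Agent.SuzukiTwo.Setup
import Cfsg.Agent.SuzukiTwo.Card
import Cfsg.Agent.SuzukiTwo.ClassTwo

/-!
# Zassenhaus groups of odd degree with a nonabelian kernel of 2-power order: first properties
-/

set_option linter.unusedSectionVars false
set_option linter.style.haveILetI false

namespace Cfsg.Lib.ZTGroups

open Subgroup MulAction
open Cfsg.Lib.OddChar.Zassenhaus

universe u v

variable {G : Type u} {Ω : Type v} [Group G] [Finite G] [MulAction G Ω] [Fintype Ω]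

/-- A Zassenhaus group whose kernel `H` is a nonabelian 2-group and whose two-point stabiliser has
odd order. -/
structure Core (a b : Ω) (H : Subgroup G) (h e : ℕ) : Prop where
  hZ : Cfsg.IsZassenhausGroup G Ω
  hab : a ≠ b
  hh : Fintype.card Ω = h + 1
  he : Nat.card (stab₂ G a b) = e
  hodd : Odd e
  hHa : H ≤ stabilizer G a
  hHcard : Nat.card H + 1 = Fintype.card Ω
  hHfix : ∀ u ∈ H, u ≠ 1 → ∀ c : Ω, u • c = c → c = a
  p2 : IsPGroup 2 H
  nab : ∃ u v : H, u * v ≠ v * u

variable [IsSimpleGroup G] {a b : Ω} {H : Subgroup G} {h e : ℕ}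

theorem Core.card_H (C : Core a b H h e) : Nat.card H = h := by
  have := C.hHcard
  have := C.hh
  omega

theorem Core.e_ge (C : Core a b H h e) : 3 ≤ e := by
  have h1 := stab₂_ne_bot C.hZ C.hab
  rw [C.he] at h1
  obtain ⟨k, hk⟩ := C.hodd
  omega

theorem Core.even_h (C : Core a b H h e) : Even h := by
  obtain ⟨k, hk⟩ := IsPGroup.iff_card.mp C.p2
  rw [C.card_H] at hk
  have h2 := two_le C.hZ C.hab C.hh
  rcases k with _ | k
  · omega
  · exact ⟨2 ^ k, by rw [hk, pow_succ]; ring⟩

theorem Core.normal (C : Core a b H h e) :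
    ∀ f ∈ stabilizer G a, ∀ u ∈ H, f * u * f⁻¹ ∈ H :=
  kernel_normal C.hZ C.hab C.hh C.hHa C.hHcard C.hHfix

theorem Core.cent_le (C : Core a b H h e) {k : G} (hk : k ∈ H) (hk1 : k ≠ 1) :
    centralizer ({k} : Set G) ≤ H :=
  haveI := Fintype.ofFinite G
  (kernel_ti C.hZ C.hab C.hh C.hHa C.hHcard C.hHfix).2.2.2.2 k hk hk1

/-- Every involution has exactly one fixed point. -/
theorem Core.exists_unique_fix (C : Core a b H h e) {s : G} (hs : orderOf s = 2) :
    ∃ c : Ω, s • c = c ∧ ∀ d, s • d = d → d = c := by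
  classical
  have h1 := nfix_involution C.hZ C.hab C.hh C.he C.hodd hs
  rw [if_pos C.even_h, nfix, Finset.card_eq_one] at h1
  obtain ⟨c, hc⟩ := h1
  refine ⟨c, (Finset.mem_filter.mp (hc ▸ Finset.mem_singleton_self c :
    c ∈ Finset.univ.filter fun x : Ω => s • x = x)).2, fun d hd => ?_⟩
  have h2 : d ∈ ({c} : Finset Ω) := hc ▸ Finset.mem_filter.mpr ⟨Finset.mem_univ _, hd⟩
  exact Finset.mem_singleton.mp h2

theorem Core.mem_H (C : Core a b H h e) {g : G} (hga : g • a = a)
    (honly : ∀ c : Ω, g • c = c → c = a) : g ∈ H :=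
  mem_kernel C.hZ C.hab C.hh C.hHa C.hHcard C.hHfix hga honly

theorem Core.invol_mem (C : Core a b H h e) {s : G} (hs : orderOf s = 2) (hsa : s • a = a) : s ∈ H := by
  obtain ⟨c, hc, hu⟩ := C.exists_unique_fix hs
  exact C.mem_H hsa fun d hd => (hu d hd).trans (hu a hsa).symm

theorem orderOf_eq_two {s : G} (h1 : s ≠ 1) (h2 : s * s = 1) : orderOf s = 2 :=
  orderOf_eq_prime (by rw [sq, h2]) h1

theorem mul_self_of_orderOf {s : G} (h : orderOf s = 2) : s * s = 1 := by
  rw [← sq, ← h, pow_orderOf_eq_one]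

theorem Core.card_invol_fixing (C : Core a b H h e) :
    Nat.card {s : G // orderOf s = 2 ∧ s • a = a} = e := by
  classical
  have := Fintype.ofFinite G
  have h1 := card_involutions C.hZ C.hab C.hh C.he C.hodd
  rw [if_pos C.even_h] at h1
  have h2 := card_moving C.hZ C.hab C.hh C.he C.hodd a
  rw [Nat.card_eq_fintype_card, Fintype.card_subtype] at h1 h2 ⊢
  have h3 := Finset.card_filter_add_card_filter_not
    (s := Finset.univ.filter fun s : G => orderOf s = 2) (fun s : G => s • a = a)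
  rw [Finset.filter_filter, Finset.filter_filter] at h3
  nlinarith

theorem Core.comm_E (C : Core a b H h e) :
    ∀ x ∈ stab₂ G a b, ∀ y ∈ stab₂ G a b, x * y = y * x :=
  (swap_sq C.hZ C.hab (C.he.symm ▸ C.hodd) C.hab).1

/-- The two-point stabiliser acts regularly on the involutions of the kernel, and these are central. -/
theorem Core.invol_central (C : Core a b H h e) :
    ∀ s ∈ H, s ≠ 1 → s * s = 1 →
      (∀ u ∈ H, s * u = u * s) ∧
      ∀ t ∈ H, t ≠ 1 → t * t = 1 → ∃ k ∈ stab₂ G a b, k * s * k⁻¹ = t := by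
  classical
  have hfpf := fpf C.hab C.hZ C.hHa C.hHfix
  have h2 := two_le C.hZ C.hab C.hh
  haveI : Nontrivial H := Finite.one_lt_card_iff_nontrivial.mp (by rw [C.card_H]; omega)
  haveI := C.p2.center_nontrivial
  obtain ⟨⟨c, hc⟩, hc1⟩ := exists_ne (1 : center H)
  obtain ⟨i, hi, hi2⟩ := Cfsg.Lib.SuzukiTwo.exists_involution C.p2
    (show c ≠ 1 from fun e' => hc1 (Subtype.ext e'))
  set x : H := c ^ 2 ^ i with hx
  have hxc : x ∈ center H := pow_mem hc _
  have hx2 : (x : G) * x = 1 := by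
    have h' : x * x = 1 := by rw [hx, ← pow_two, ← pow_mul, ← pow_succ]; exact hi2
    exact congrArg Subtype.val h'
  have hx1 : (x : G) ≠ 1 := fun h' => hi (Subtype.ext h')
  let f : stab₂ G a b → {s : G // orderOf s = 2 ∧ s • a = a} := fun k =>
    ⟨(k : G) * x * (k : G)⁻¹, orderOf_eq_two (fun h' => hx1 (conj_eq_one_iff.mp h')) (by
        rw [show (k : G) * x * (k : G)⁻¹ * ((k : G) * x * (k : G)⁻¹) = k * ((x : G) * x) * (k : G)⁻¹ by
          group, hx2, mul_one, mul_inv_cancel]),
      C.hHa (C.normal k k.2.1 x x.2)⟩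
  have hf : Function.Injective f := by
    intro k k' hkk
    have h1 : (k : G) * x * (k : G)⁻¹ = k' * x * (k' : G)⁻¹ := congrArg Subtype.val hkk
    by_contra hne
    refine hx1 (hfpf.eq_one (mul_mem (inv_mem k'.2) k.2) (fun h' => hne (Subtype.ext
      (inv_mul_eq_one.mp h').symm)) x.2 ?_)
    calc (k' : G)⁻¹ * k * x = (k' : G)⁻¹ * (k * x * (k : G)⁻¹) * k := by group
      _ = (x : G) * ((k' : G)⁻¹ * k) := by rw [h1]; group
  have hbij := hf.bijective_of_nat_card_le (le_of_eq (C.card_invol_fixing.trans C.he.symm))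
  have key : ∀ s ∈ H, s ≠ 1 → s * s = 1 → ∃ k : stab₂ G a b, (k : G) * x * (k : G)⁻¹ = s := by
    intro s hs hs1 hs2
    obtain ⟨k, hk⟩ := hbij.2 ⟨s, orderOf_eq_two hs1 hs2, C.hHa hs⟩
    exact ⟨k, congrArg Subtype.val hk⟩
  intro s hs hs1 hs2
  obtain ⟨k, rfl⟩ := key s hs hs1 hs2
  refine ⟨fun u hu => ?_, fun t ht ht1 ht2 => ?_⟩
  · have hk' : (k : G)⁻¹ ∈ stabilizer G a := inv_mem k.2.1
    have hu' := C.normal _ hk' u hu
    rw [inv_inv] at hu'
    have h1 : (k : G)⁻¹ * u * k * x = x * ((k : G)⁻¹ * u * k) :=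
      congrArg Subtype.val (mem_center_iff.mp hxc ⟨_, hu'⟩)
    calc (k : G) * x * (k : G)⁻¹ * u = k * ((x : G) * ((k : G)⁻¹ * u * k)) * (k : G)⁻¹ := by group
      _ = k * ((k : G)⁻¹ * u * k * x) * (k : G)⁻¹ := by rw [h1]
      _ = u * ((k : G) * x * (k : G)⁻¹) := by group
  · obtain ⟨k', rfl⟩ := key t ht ht1 ht2
    exact ⟨k' * (k : G)⁻¹, mul_mem k'.2 (inv_mem k.2), by group⟩

/-- The conjugation action of an element of the stabiliser on the kernel. -/
def conjH (C : Core a b H h e) : stab₂ G a b →* MulAut H where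
  toFun k :=
    { toFun := fun u => ⟨(k : G) * u * (k : G)⁻¹, C.normal k k.2.1 u u.2⟩
      invFun := fun u => ⟨(k : G)⁻¹ * u * k, by
        simpa using C.normal (k : G)⁻¹ (inv_mem k.2.1) u u.2⟩
      left_inv := fun u => Subtype.ext (by simp [mul_assoc])
      right_inv := fun u => Subtype.ext (by simp [mul_assoc])
      map_mul' := fun u v => Subtype.ext (by simp [mul_assoc]) }
  map_one' := MulEquiv.ext fun u => Subtype.ext (by simp)
  map_mul' k l := MulEquiv.ext fun u => Subtype.ext (by simp [mul_assoc])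

theorem conjH_coe (C : Core a b H h e) (k : stab₂ G a b) (u : H) :
    ((conjH C k u : H) : G) = k * u * (k : G)⁻¹ := rfl

theorem Core.conjH_ne (C : Core a b H h e) {k : stab₂ G a b} (hk : k ≠ 1) {u : H}
    (hu : conjH C k u = u) : u = 1 := by
  have h1 : (k : G) * u * (k : G)⁻¹ = u := congrArg Subtype.val hu
  exact Subtype.ext ((fpf C.hab C.hZ C.hHa C.hHfix).eq_one k.2 (fun h' => hk (Subtype.ext h')) u.2
    (mul_inv_eq_iff_eq_mul.mp h1))

/-- The two-point stabiliser as a commutative group of automorphisms of the kernel. -/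
def autE (C : Core a b H h e) : Subgroup (MulAut H) := (conjH C).range

theorem Core.autE_comm (C : Core a b H h e) : ∀ x y : autE C, x * y = y * x := by
  rintro ⟨-, k, rfl⟩ ⟨-, l, rfl⟩
  apply Subtype.ext
  show conjH C k * conjH C l = conjH C l * conjH C k
  rw [← map_mul, ← map_mul]
  exact congrArg _ (Subtype.ext (C.comm_E k k.2 l l.2))

/-- The commutative group structure on that group of automorphisms. -/
@[reducible] def autCommGroup (C : Core a b H h e) : CommGroup (autE C) :=
  { (inferInstance : Group (autE C)) with mul_comm := C.autE_comm }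

theorem Core.involTrans (C : Core a b H h e) :
    letI := autCommGroup C
    Cfsg.Lib.SuzukiTwo.InvolTrans (autE C).subtype := by
  letI := autCommGroup C
  refine ⟨fun x hx => ?_, fun x y hx hx2 hy hy2 => ?_⟩
  · by_cases hx1 : x = 1
    · rw [hx1]; exact one_mem _
    refine mem_center_iff.mpr fun u => Subtype.ext ?_
    exact ((C.invol_central x x.2 (fun h' => hx1 (Subtype.ext h')) (congrArg Subtype.val hx)).1 u u.2).symm
  · obtain ⟨k, hk, hkxy⟩ := (C.invol_central x x.2 (fun h' => hx (Subtype.ext h'))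
      (congrArg Subtype.val hx2)).2 y y.2 (fun h' => hy (Subtype.ext h')) (congrArg Subtype.val hy2)
    exact ⟨⟨conjH C ⟨k, hk⟩, ⟨⟨k, hk⟩, rfl⟩⟩, Subtype.ext hkxy⟩

theorem Core.exists_two_invol (C : Core a b H h e) :
    ∃ x y : H, x ≠ y ∧ x ≠ 1 ∧ x * x = 1 ∧ y ≠ 1 ∧ y * y = 1 := by
  have h1 : 1 < Nat.card {s : G // orderOf s = 2 ∧ s • a = a} := by
    rw [C.card_invol_fixing]
    have := C.e_ge
    omega
  obtain ⟨⟨s, hs, hsa⟩, ⟨t, ht, hta⟩, hne⟩ := (Finite.one_lt_card_iff_nontrivial.mp h1).exists_pair_ne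
  refine ⟨⟨s, C.invol_mem hs hsa⟩, ⟨t, C.invol_mem ht hta⟩, fun h' => hne (Subtype.ext
    (congrArg (fun z : H => (z : G)) h')), fun h' => ?_, Subtype.ext (mul_self_of_orderOf hs), fun h' => ?_,
    Subtype.ext (mul_self_of_orderOf ht)⟩
  · have h'' : s = 1 := congrArg Subtype.val h'
    rw [h'', orderOf_one] at hs
    omega
  · have h'' : t = 1 := congrArg Subtype.val h'
    rw [h'', orderOf_one] at ht
    omega

theorem Core.center_iff (C : Core a b H h e) (x : H) : x ∈ center H ↔ x * x = 1 := by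
  letI := autCommGroup C
  exact ⟨fun hx => Cfsg.Lib.SuzukiTwo.center_sq_eq_one C.p2 C.involTrans C.nab x hx,
    fun hx => C.involTrans.central x hx⟩

theorem Core.sq_central (C : Core a b H h e) (x : H) : x * x ∈ center H := by
  letI := autCommGroup C
  exact Cfsg.Lib.SuzukiTwo.sq_mem_center C.p2 C.involTrans C.nab C.exists_two_invol x

/-- The central elements of the kernel are permuted transitively. -/
theorem Core.center_trans (C : Core a b H h e) {x y : H} (hx : x ∈ center H) (hx1 : x ≠ 1)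
    (hy : y ∈ center H) (hy1 : y ≠ 1) :
    ∃ k : stab₂ G a b, conjH C k x = y := by
  obtain ⟨k, hk, hkxy⟩ := (C.invol_central x x.2 (fun h' => hx1 (Subtype.ext h'))
    (congrArg Subtype.val ((C.center_iff x).mp hx))).2 y y.2 (fun h' => hy1 (Subtype.ext h'))
    (congrArg Subtype.val ((C.center_iff y).mp hy))
  exact ⟨⟨k, hk⟩, Subtype.ext hkxy⟩

theorem Core.card_center (C : Core a b H h e) : Nat.card (center H) = e + 1 := by
  classical
  have h1 : Nat.card {s : G // orderOf s = 2 ∧ s • a = a} = Nat.card {x : center H // x ≠ 1} := by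
    refine Nat.card_congr
      { toFun := fun s => ⟨⟨⟨s, C.invol_mem s.2.1 s.2.2⟩, (C.center_iff _).mpr
          (Subtype.ext (mul_self_of_orderOf s.2.1))⟩, fun h' => ?_⟩
        invFun := fun x => ⟨((x.1 : H) : G), orderOf_eq_two (fun h' => x.2 (Subtype.ext (Subtype.ext h')))
          (congrArg Subtype.val ((C.center_iff _).mp x.1.2)), C.hHa x.1.1.2⟩
        left_inv := fun _ => rfl
        right_inv := fun _ => rfl }
    have h'' : (s : G) = 1 := congrArg Subtype.val (congrArg Subtype.val h')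
    have := s.2.1
    rw [h'', orderOf_one] at this
    omega
  rw [C.card_invol_fixing] at h1
  have := Fintype.ofFinite (center H)
  rw [Nat.card_eq_fintype_card (α := {x : center H // x ≠ 1}), Fintype.card_subtype_compl,
    Fintype.card_subtype_eq] at h1
  rw [Nat.card_eq_fintype_card]
  have := Fintype.card_pos (α := center H)
  omega

theorem Core.orders (C : Core a b H h e) :
    ∃ n : ℕ, 2 ≤ n ∧ e + 1 = 2 ^ n ∧ (h = (2 ^ n) ^ 2 ∨ h = (2 ^ n) ^ 3) := by
  letI := autCommGroup C
  obtain ⟨n, hn⟩ := IsPGroup.iff_card.mp (C.p2.to_subgroup (center H))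
  rw [C.card_center] at hn
  refine ⟨n, ?_, hn, ?_⟩
  · by_contra hlt
    have := Nat.pow_le_pow_right (show 0 < 2 by norm_num) (show n ≤ 1 by omega)
    have := C.e_ge
    omega
  · have h1 := Cfsg.Lib.SuzukiTwo.card_eq C.p2 C.involTrans C.nab C.exists_two_invol
    rwa [C.card_H, C.card_center, hn] at h1

/-- Elements without fixed points have odd order. -/
theorem Core.odd_of_fpf (C : Core a b H h e) {g : G} (hg : ∀ c : Ω, g • c ≠ c) : Odd (orderOf g) := by
  rw [← Nat.not_even_iff_odd]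
  rintro ⟨m, hm⟩
  have hpos := orderOf_pos g
  have hs : orderOf (g ^ m) = 2 := by
    rw [orderOf_pow_of_dvd (by omega) ⟨2, by omega⟩, hm, ← two_mul, Nat.mul_div_cancel _ (by omega)]
  obtain ⟨c, hc, hu⟩ := C.exists_unique_fix hs
  refine hg c (hu _ ?_)
  rw [← mul_smul, (Commute.pow_self g m).eq, mul_smul, hc]

end Cfsg.Lib.ZTGroups
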