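import Cfsg.Agent.ZTGroups.Basic

/-!
# Splitting sums over the group by fixed points
-/

set_option linter.unusedSectionVars false
set_option linter.style.haveILetI false

namespace Cfsg.Lib.ZTGroups

open Subgroup MulAction
open Cfsg.Lib.OddChar.Zassenhaus

universe u v w

variable {G : Type u} {Ω : Type v} [Group G] [Fintype G] [MulAction G Ω] [Fintype Ω] [DecidableEq Ω]
  [IsSimpleGroup G] {a b : Ω} {H : Subgroup G} {h e : ℕ}

theorem nfix_eq_zero {g : G} : nfix (Ω := Ω) g = 0 ↔ ∀ c : Ω, g • c ≠ c := by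
  simp [nfix, Finset.filter_eq_empty_iff]

theorem nfix_eq_one {g : G} :
    nfix (Ω := Ω) g = 1 ↔ ∃ c : Ω, g • c = c ∧ ∀ d, g • d = d → d = c := by
  simp only [nfix, Finset.card_eq_one, Finset.eq_singleton_iff_unique_mem, Finset.mem_filter,
    Finset.mem_univ, true_and]

theorem Core.conj_mem_H (C : Core a b H h e) {g : G} {c : Ω} (hc : g • c = c)
    (honly : ∀ d, g • d = d → d = c) : ∃ k : G, k • a = c ∧ k⁻¹ * g * k ∈ H := by
  obtain ⟨k, rfl⟩ := exists_map_one C.hZ C.hab a c
  refine ⟨k, rfl, C.mem_H (by rw [mul_smul, mul_smul, hc, inv_smul_smul]) fun d hd => ?_⟩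
  rw [mul_smul, mul_smul, inv_smul_eq_iff] at hd
  exact smul_left_cancel k (honly _ hd)

omit [DecidableEq Ω] in
theorem Core.conj_mem_E (C : Core a b H h e) {g : G} {c d : Ω} (hcd : c ≠ d) (hc : g • c = c)
    (hd : g • d = d) : ∃ k : G, k • a = c ∧ k • b = d ∧ k⁻¹ * g * k ∈ stab₂ G a b := by
  obtain ⟨k, rfl, rfl⟩ := exists_map C.hZ C.hab hcd
  exact ⟨k, rfl, rfl, mem_inf.mpr ⟨mem_stabilizer_iff.mpr (by rw [mul_smul, mul_smul, hc, inv_smul_smul]),
    mem_stabilizer_iff.mpr (by rw [mul_smul, mul_smul, hd, inv_smul_smul])⟩⟩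

/-- The elements fixing exactly one given point. -/
def onlyFix (c : Ω) : Finset G :=
  Finset.univ.filter fun g : G => g • c = c ∧ ∀ d : Ω, g • d = d → d = c

theorem Core.sum_onlyFix (C : Core a b H h e) {R : Type w} [AddCommGroup R] (f : G → R)
    (hf : ∀ g k : G, f (k * g * k⁻¹) = f g) [Fintype H] (c : Ω) :
    ∑ g ∈ onlyFix (G := G) c, f g = (∑ u : H, f u) - f 1 := by
  classical
  obtain ⟨k, rfl⟩ := exists_map_one C.hZ C.hab a c
  have h1 : ∑ u : H, f u = f 1 + ∑ u ∈ (Finset.univ : Finset H).erase 1, f u :=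
    (Finset.add_sum_erase Finset.univ (fun u : H => f u) (Finset.mem_univ 1)).symm
  rw [h1, add_sub_cancel_left]
  rw [eq_comm]
  refine Finset.sum_bij (fun u _ => k * (u : G) * k⁻¹) ?_ ?_ ?_ ?_
  · intro u hu
    have hu1 : (u : G) ≠ 1 := fun h' => (Finset.mem_erase.mp hu).1 (Subtype.ext h')
    simp only [onlyFix, Finset.mem_filter, Finset.mem_univ, true_and, mul_smul, inv_smul_smul]
    refine ⟨by rw [show (u : G) • a = a from C.hHa u.2], fun d hd => ?_⟩
    rw [← inv_smul_eq_iff]
    exact C.hHfix u u.2 hu1 _ (eq_inv_smul_iff.mpr hd)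
  · intro u _ v _ huv
    exact Subtype.ext (mul_left_cancel (mul_right_cancel huv))
  · intro g hg
    simp only [onlyFix, Finset.mem_filter, Finset.mem_univ, true_and] at hg
    have hga : (k⁻¹ * g * k) • a = a := by rw [mul_smul, mul_smul, hg.1, inv_smul_smul]
    have hgH : k⁻¹ * g * k ∈ H := C.mem_H hga fun d hd => by
      rw [mul_smul, mul_smul, inv_smul_eq_iff] at hd
      exact smul_left_cancel k (hg.2 _ hd)
    refine ⟨⟨_, hgH⟩, Finset.mem_erase.mpr ⟨fun h' => ?_, Finset.mem_univ _⟩, by group⟩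
    have h2 : k⁻¹ * g * k = 1 := congrArg Subtype.val h'
    have hg1 : g = 1 := by
      calc g = k * (k⁻¹ * g * k) * k⁻¹ := by group
        _ = 1 := by rw [h2]; group
    subst hg1
    have := hg.2 (k • b) (one_smul _ _)
    exact C.hab (smul_left_cancel k this).symm
  · intro u _
    exact (hf u k).symm

/-- A sum over the group of a class function, by the number of fixed points. -/
theorem Core.sum_split (C : Core a b H h e) {R : Type w} [AddCommGroup R] (f : G → R)
    (hf : ∀ g k : G, f (k * g * k⁻¹) = f g) [Fintype H] :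
    ∑ g : G, f g = f 1 + (h + 1) • ((∑ u : H, f u) - f 1) +
      (∑ g ∈ Finset.univ.filter (fun g : G => nfix (Ω := Ω) g = 0), f g) +
      ∑ g ∈ Finset.univ.filter (fun g : G => nfix (Ω := Ω) g = 2), f g := by
  classical
  have hh3 : Fintype.card Ω = h + 1 := C.hh
  have h2 := two_le C.hZ C.hab C.hh
  have hpt : ∀ g : G, f g = (if g = 1 then f g else 0) + (if nfix (Ω := Ω) g = 1 then f g else 0)
      + (if nfix (Ω := Ω) g = 0 then f g else 0) + (if nfix (Ω := Ω) g = 2 then f g else 0) := by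
    intro g
    rcases eq_or_ne g 1 with rfl | hg
    · rw [nfix_one, hh3, if_pos rfl, if_neg (by omega), if_neg (by omega), if_neg (by omega)]
      simp
    · have := nfix_le C.hZ (Ω := Ω) hg
      rw [if_neg hg]
      interval_cases nfix (Ω := Ω) g <;> simp
  rw [Finset.sum_congr rfl fun g _ => hpt g, Finset.sum_add_distrib, Finset.sum_add_distrib,
    Finset.sum_add_distrib, Finset.sum_ite_eq' Finset.univ (1 : G) f, if_pos (Finset.mem_univ _)]
  simp only [← Finset.sum_filter]
  congr 3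
  have hU : Finset.univ.filter (fun g : G => nfix (Ω := Ω) g = 1) =
      (Finset.univ : Finset Ω).biUnion (onlyFix (G := G)) := by
    ext g
    simp only [Finset.mem_filter, Finset.mem_univ, true_and, Finset.mem_biUnion, onlyFix, nfix_eq_one]
  rw [hU, Finset.sum_biUnion, Finset.sum_congr rfl fun c _ => C.sum_onlyFix f hf c, Finset.sum_const,
    Finset.card_univ, hh3]
  intro c _ d _ hcd
  rw [Function.onFun, Finset.disjoint_left]
  intro g hc hd
  simp only [onlyFix, Finset.mem_filter, Finset.mem_univ, true_and] at hc hd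
  exact hcd (hd.2 c hc.1)

end Cfsg.Lib.ZTGroups
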