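import Cfsg.Agent.ZTGroups.Counting
import Cfsg.Agent.Chars.NormTwo

/-!
# The linear characters of the kernel trivial on its centre and the induced characters of the
point stabiliser
-/

set_option linter.unusedSectionVars false
set_option linter.style.haveILetI false

namespace Cfsg.Lib.ZTGroups

open Subgroup MulAction
open Cfsg.Lib.OddChar.Zassenhaus Cfsg.Lib.Chars
open scoped ComplexConjugate

universe u v

variable {G : Type u} {Ω : Type v} [Group G] [Fintype G] [MulAction G Ω] [Fintype Ω]
  [IsSimpleGroup G] {a b : Ω} {H : Subgroup G} {h e : ℕ}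

theorem Core.quot_comm (C : Core a b H h e) : ∀ x y : H ⧸ center H, x * y = y * x := by
  have key : ∀ x : H ⧸ center H, x * x = 1 := by
    intro x
    induction x using QuotientGroup.induction_on with
    | H u => exact (QuotientGroup.eq_one_iff (u * u)).mpr (C.sq_central u)
  intro x y
  calc x * y = (y * y) * (x * y) * (x * x) := by rw [key, key, one_mul, mul_one]
    _ = y * ((y * x) * (y * x)) * x := by group
    _ = y * x := by rw [key, mul_one]

/-- The real value of a linear character trivial on the centre. -/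
noncomputable def rl (η : (H ⧸ center H) →* ℂˣ) (u : H) : ℝ := (η (u : H ⧸ center H) : ℂ).re

theorem Core.rl_coe (C : Core a b H h e) (η : (H ⧸ center H) →* ℂˣ) (u : H) :
    (η (u : H ⧸ center H) : ℂ) = (rl η u : ℂ) := by
  have h1 : (η (u : H ⧸ center H) : ℂ) * (η (u : H ⧸ center H) : ℂ) = 1 := by
    rw [← Units.val_mul, ← map_mul, ← QuotientGroup.mk_mul,
      (QuotientGroup.eq_one_iff _).mpr (C.sq_central u), map_one, Units.val_one]
  rw [rl]
  rcases mul_self_eq_one_iff.mp h1 with h2 | h2 <;> rw [h2] <;> simp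

theorem Core.rl_mul (C : Core a b H h e) (η : (H ⧸ center H) →* ℂˣ) (u v : H) :
    rl η (u * v) = rl η u * rl η v := by
  have h1 : (η ((u * v : H) : H ⧸ center H) : ℂ) =
      (η (u : H ⧸ center H) : ℂ) * (η (v : H ⧸ center H) : ℂ) := by
    rw [QuotientGroup.mk_mul, map_mul, Units.val_mul]
  rw [C.rl_coe, C.rl_coe, C.rl_coe] at h1
  exact_mod_cast h1

theorem rl_one_char (u : H) : rl (1 : (H ⧸ center H) →* ℂˣ) u = 1 := by simp [rl]

theorem rl_center (η : (H ⧸ center H) →* ℂˣ) {z : H} (hz : z ∈ center H) : rl η z = 1 := by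
  simp [rl, (QuotientGroup.eq_one_iff z).mpr hz]

theorem rl_apply_one (η : (H ⧸ center H) →* ℂˣ) : rl η (1 : H) = 1 := rl_center η (one_mem _)

theorem Core.rl_mul_char (C : Core a b H h e) (η ν : (H ⧸ center H) →* ℂˣ) (u : H) :
    rl (η * ν) u = rl η u * rl ν u := by
  have h1 : ((η * ν) (u : H ⧸ center H) : ℂ) =
      (η (u : H ⧸ center H) : ℂ) * (ν (u : H ⧸ center H) : ℂ) := by
    rw [MonoidHom.mul_apply, Units.val_mul]
  rw [C.rl_coe, C.rl_coe, C.rl_coe] at h1
  exact_mod_cast h1

theorem Core.sum_rl [Fintype H] (C : Core a b H h e) {η : (H ⧸ center H) →* ℂˣ} (hη : η ≠ 1) :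
    ∑ u : H, rl η u = 0 := by
  have h1 : ∑ u : H, ((Units.coeHom ℂ).comp (η.comp (QuotientGroup.mk' (center H)))) u = 0 :=
    sum_hom_units_eq_zero _ fun h' => hη (MonoidHom.ext fun x => Units.ext (by
      induction x using QuotientGroup.induction_on with
      | H u => exact DFunLike.congr_fun h' u))
  simp only [MonoidHom.coe_comp, Function.comp_apply, QuotientGroup.mk'_apply, Units.coeHom_apply,
    C.rl_coe] at h1
  exact_mod_cast h1

theorem Core.mul_self_char (C : Core a b H h e) (η : (H ⧸ center H) →* ℂˣ) : η * η = 1 :=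
  MonoidHom.ext fun x => by
    induction x using QuotientGroup.induction_on with
    | H u =>
      rw [MonoidHom.mul_apply, MonoidHom.one_apply, ← map_mul, ← QuotientGroup.mk_mul,
        (QuotientGroup.eq_one_iff _).mpr (C.sq_central u), map_one]

theorem Core.sum_rl_mul [Fintype H] [DecidableEq ((H ⧸ center H) →* ℂˣ)] (C : Core a b H h e)
    (η ν : (H ⧸ center H) →* ℂˣ) :
    ∑ u : H, rl η u * rl ν u = if η = ν then (h : ℝ) else 0 := by
  simp only [← C.rl_mul_char]
  split_ifs with hην
  · subst hην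
    simp only [C.mul_self_char, rl_one_char, Finset.sum_const, Finset.card_univ, nsmul_eq_mul, mul_one]
    rw [← Nat.card_eq_fintype_card, C.card_H]
  · refine C.sum_rl fun h' => hην ?_
    refine MonoidHom.ext fun x => mul_right_cancel (b := ν x) ?_
    rw [← MonoidHom.mul_apply, ← MonoidHom.mul_apply, h', C.mul_self_char]

theorem Core.card_quot (C : Core a b H h e) : Nat.card (H ⧸ center H) * (e + 1) = h := by
  rw [← C.card_center, ← Subgroup.card_eq_card_quotient_mul_card_subgroup, C.card_H]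

theorem Core.sum_rl_char [Fintype ((H ⧸ center H) →* ℂˣ)] (C : Core a b H h e) {u : H}
    (hu : u ∉ center H) : ∑ η : (H ⧸ center H) →* ℂˣ, rl η u = 0 := by
  have h1 := sum_hom_apply C.quot_comm (x := (u : H ⧸ center H))
    (fun h' => hu ((QuotientGroup.eq_one_iff u).mp h'))
  simp only [C.rl_coe] at h1
  exact_mod_cast h1

/-- The conjugate of a linear character trivial on the centre by an element of the two-point stabiliser. -/
noncomputable def twist (C : Core a b H h e) (k : stab₂ G a b) (η : (H ⧸ center H) →* ℂˣ) :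
    (H ⧸ center H) →* ℂˣ :=
  η.comp (QuotientGroup.map (center H) (center H) (conjH C k).toMonoidHom
    (fun z hz => by
      rw [Subgroup.mem_comap]
      refine (C.center_iff _).mpr ?_
      rw [← map_mul, (C.center_iff z).mp hz, map_one]))

theorem rl_twist (C : Core a b H h e) (k : stab₂ G a b) (η : (H ⧸ center H) →* ℂˣ) (u : H) :
    rl (twist C k η) u = rl η (conjH C k u) := rfl

theorem twist_mul (C : Core a b H h e) (k l : stab₂ G a b) (η : (H ⧸ center H) →* ℂˣ) :
    twist C (k * l) η = twist C l (twist C k η) := by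
  refine MonoidHom.ext fun x => ?_
  induction x using QuotientGroup.induction_on with
  | H u =>
    show η ((conjH C (k * l) u : H) : H ⧸ center H) = η ((conjH C k (conjH C l u) : H) : H ⧸ center H)
    rw [map_mul]
    rfl

theorem twist_one (C : Core a b H h e) (η : (H ⧸ center H) →* ℂˣ) : twist C 1 η = η := by
  refine MonoidHom.ext fun x => ?_
  induction x using QuotientGroup.induction_on with
  | H u =>
    show η ((conjH C 1 u : H) : H ⧸ center H) = η (u : H ⧸ center H)
    rw [map_one]
    rfl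

theorem twist_ne_one (C : Core a b H h e) (k : stab₂ G a b) {η : (H ⧸ center H) →* ℂˣ} (hη : η ≠ 1) :
    twist C k η ≠ 1 := by
  intro h'
  apply hη
  have h1 := twist_mul C k k⁻¹ η
  rw [mul_inv_cancel, twist_one, h'] at h1
  rw [h1]
  rfl

theorem twist_free (C : Core a b H h e) {k : stab₂ G a b} (hk : k ≠ 1) {η : (H ⧸ center H) →* ℂˣ}
    (hη : twist C k η = η) : η = 1 := by
  classical
  have hinj : Function.Injective fun u : H => u⁻¹ * conjH C k u := by
    intro u v huv
    simp only at huv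
    have h1 : conjH C k (v * u⁻¹) = v * u⁻¹ := by
      rw [map_mul, map_inv]
      calc conjH C k v * (conjH C k u)⁻¹ = v * (v⁻¹ * conjH C k v) * (u⁻¹ * conjH C k u)⁻¹ * u⁻¹ := by group
        _ = v * u⁻¹ := by rw [huv]; group
    exact (mul_inv_eq_one.mp (C.conjH_ne hk h1)).symm
  refine MonoidHom.ext fun x => Units.ext ?_
  induction x using QuotientGroup.induction_on with
  | H w =>
    obtain ⟨u, rfl⟩ := (Finite.injective_iff_surjective.mp hinj) w
    rw [C.rl_coe, MonoidHom.one_apply, Units.val_one]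
    rw [C.rl_mul, ← rl_twist, hη, ← C.rl_mul, inv_mul_cancel, rl_apply_one]
    simp

theorem twist_injective (C : Core a b H h e) {η : (H ⧸ center H) →* ℂˣ} (hη : η ≠ 1) :
    Function.Injective fun k : stab₂ G a b => twist C k η := by
  intro k l hkl
  simp only at hkl
  by_contra hne
  refine hη (twist_free C (k := k * l⁻¹) (fun h' => hne (mul_inv_eq_one.mp h')) ?_)
  rw [twist_mul, hkl, ← twist_mul, mul_inv_cancel, twist_one]

/-- The character of the point stabiliser induced from a linear character of the kernel. -/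
noncomputable def phi (a : Ω) [Fintype (stabilizer G a)] (η : (H ⧸ center H) →* ℂˣ) :
    stabilizer G a → ℂ :=
  Cfsg.indFun (H.subgroupOf (stabilizer G a))
    (fun x => (η ((⟨((x : stabilizer G a) : G), x.2⟩ : H) : H ⧸ center H) : ℂ))

theorem Core.normal_sub (C : Core a b H h e) : (H.subgroupOf (stabilizer G a)).Normal :=
  ⟨fun u hu g => C.normal g g.2 u hu⟩

variable [Fintype (stabilizer G a)]

theorem phi_out (C : Core a b H h e) (η : (H ⧸ center H) →* ℂˣ) {g : stabilizer G a}
    (hg : (g : G) ∉ H) : phi a η g = 0 := by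
  haveI := C.normal_sub
  exact indFun_normal_not_mem _ _ hg

/-- The decomposition of the point stabiliser. -/
noncomputable def Core.decomp (C : Core a b H h e) : H × stab₂ G a b ≃ stabilizer G a :=
  Equiv.ofBijective (fun p => ⟨(p.1 : G) * p.2, mul_mem (C.hHa p.1.2) p.2.2.1⟩) (by
    rw [Nat.bijective_iff_injective_and_card, Nat.card_prod, C.card_H, C.he,
      card_stab C.hZ C.hab C.hh C.he a]
    refine ⟨fun p p' hpp => ?_, rfl⟩
    have h1 : (p.1 : G) * p.2 = p'.1 * p'.2 := congrArg Subtype.val hpp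
    have h2 : ((p'.1 : G)⁻¹ * p.1) = (p'.2 : G) * (p.2 : G)⁻¹ := by
      calc ((p'.1 : G)⁻¹ * p.1) = (p'.1 : G)⁻¹ * ((p.1 : G) * p.2) * (p.2 : G)⁻¹ := by group
        _ = _ := by rw [h1]; group
    have h3 : ((p'.1 : G)⁻¹ * p.1) = 1 := by
      by_contra hne
      have hm : ((p'.1 : G)⁻¹ * p.1) ∈ stab₂ G a b := h2 ▸ mul_mem p'.2.2 (inv_mem p.2.2)
      exact C.hab (C.hHfix _ (mul_mem (inv_mem p'.1.2) p.1.2) hne b hm.2).symm
    rw [h3] at h2
    exact Prod.ext (Subtype.ext (inv_mul_eq_one.mp h3).symm)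
      (Subtype.ext (mul_inv_eq_one.mp h2.symm).symm))

theorem Core.decomp_coe (C : Core a b H h e) (u : H) (k : stab₂ G a b) :
    ((C.decomp (u, k) : stabilizer G a) : G) = u * k := rfl

theorem phi_mem (C : Core a b H h e) [Fintype (stab₂ G a b)] (η : (H ⧸ center H) →* ℂˣ) (u : H) :
    phi a η ⟨u, C.hHa u.2⟩ = ∑ k : stab₂ G a b, (rl η (conjH C k u) : ℂ) := by
  classical
  haveI := C.normal_sub
  haveI : Fintype H := Fintype.ofFinite _
  have hcard : Nat.card (H.subgroupOf (stabilizer G a)) = h :=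
    (Nat.card_congr (subgroupOfEquivOfLe C.hHa).toEquiv).trans C.card_H
  rw [phi, show (⟨(u : G), C.hHa u.2⟩ : stabilizer G a) =
    ((⟨⟨u, C.hHa u.2⟩, u.2⟩ : H.subgroupOf (stabilizer G a)) : stabilizer G a) from rfl, indFun_normal_mem,
    hcard, ← Equiv.sum_comp C.decomp, Fintype.sum_prod_type]
  have hterm : ∀ (v : H) (k : stab₂ G a b),
      (η ((⟨(v : G) * k * u * ((v : G) * k)⁻¹, C.normal _ (mul_mem (C.hHa v.2) k.2.1) u u.2⟩ : H) :
        H ⧸ center H) : ℂ) = (rl η (conjH C k u) : ℂ) := by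
    intro v k
    rw [show (⟨(v : G) * k * u * ((v : G) * k)⁻¹, C.normal _ (mul_mem (C.hHa v.2) k.2.1) u u.2⟩ : H) =
      v * conjH C k u * v⁻¹ from Subtype.ext (by
        simp only [Subgroup.coe_mul, Subgroup.coe_inv, conjH_coe]
        group), C.rl_coe, C.rl_mul, C.rl_mul, mul_comm (rl η v), mul_assoc, ← C.rl_mul, mul_inv_cancel,
      rl_apply_one, mul_one]
  refine (congrArg (fun t => (h : ℂ)⁻¹ * t)
    (Finset.sum_congr rfl fun v _ => Finset.sum_congr rfl fun k _ => hterm v k)).trans ?_
  rw [Finset.sum_const,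
    Finset.card_univ, nsmul_eq_mul, ← Nat.card_eq_fintype_card, C.card_H, ← mul_assoc,
    inv_mul_cancel₀ (by exact_mod_cast (show h ≠ 0 by have := two_le C.hZ C.hab C.hh; omega)), one_mul]

theorem phi_eq_of_twist (C : Core a b H h e) {η ν : (H ⧸ center H) →* ℂˣ} (k : stab₂ G a b)
    (hk : twist C k ν = η) : phi a η = phi a ν := by
  classical
  haveI : Fintype (stab₂ G a b) := Fintype.ofFinite _
  funext g
  by_cases hg : (g : G) ∈ H
  · rw [show g = ⟨((⟨g, hg⟩ : H) : G), C.hHa hg⟩ from rfl, phi_mem C, phi_mem C, ← hk]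
    refine Fintype.sum_equiv (Equiv.mulLeft k) _ _ fun l => ?_
    rw [rl_twist, Equiv.coe_mulLeft, map_mul]
    rfl
  · rw [phi_out C _ hg, phi_out C _ hg]

theorem phi_real (C : Core a b H h e) (η : (H ⧸ center H) →* ℂˣ) (g : stabilizer G a) :
    conj (phi a η g) = phi a η g := by
  classical
  haveI : Fintype (stab₂ G a b) := Fintype.ofFinite _
  by_cases hg : (g : G) ∈ H
  · rw [show g = ⟨((⟨g, hg⟩ : H) : G), C.hHa hg⟩ from rfl, phi_mem C, map_sum]
    simp
  · rw [phi_out C _ hg, map_zero]

theorem phi_one (C : Core a b H h e) (η : (H ⧸ center H) →* ℂˣ) : phi a η 1 = (e : ℂ) := by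
  classical
  haveI : Fintype (stab₂ G a b) := Fintype.ofFinite _
  rw [show (1 : stabilizer G a) = ⟨((1 : H) : G), C.hHa (1 : H).2⟩ from rfl, phi_mem C]
  simp only [map_one, rl_apply_one, Complex.ofReal_one, Finset.sum_const, Finset.card_univ, nsmul_eq_mul,
    mul_one]
  rw [← Nat.card_eq_fintype_card, C.he]

theorem phi_gen (C : Core a b H h e) (η : (H ⧸ center H) →* ℂˣ) :
    Cfsg.IsCharacter (stabilizer G a) (phi a η) := by
  classical
  let i : H.subgroupOf (stabilizer G a) →* H :=
    { toFun := fun x => ⟨((x : stabilizer G a) : G), x.2⟩, map_one' := rfl, map_mul' := fun _ _ => rfl }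
  exact IsCharacter.indFun (isCharacter_linear (η.comp ((QuotientGroup.mk' (center H)).comp i)))

theorem phi_inner_left (C : Core a b H h e) [Fintype H] {f : stabilizer G a → ℂ}
    (hf : Cfsg.IsClassFunction (stabilizer G a) f) (η : (H ⧸ center H) →* ℂˣ) :
    Cfsg.classInner (phi a η) f =
      (h : ℂ)⁻¹ * ∑ u : H, (rl η u : ℂ) * conj (f ⟨u, C.hHa u.2⟩) := by
  classical
  rw [phi, frobenius_reciprocity _ _ hf, classInner_def,
    show Nat.card (H.subgroupOf (stabilizer G a)) = h from
      (Nat.card_congr (subgroupOfEquivOfLe C.hHa).toEquiv).trans C.card_H]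
  congr 1
  refine Fintype.sum_equiv (subgroupOfEquivOfLe C.hHa).toEquiv _ _ fun x => ?_
  rw [← C.rl_coe]
  rfl

theorem phi_inner (C : Core a b H h e) [Fintype H] [Fintype (stab₂ G a b)]
    [DecidableEq ((H ⧸ center H) →* ℂˣ)] (η ν : (H ⧸ center H) →* ℂˣ) :
    Cfsg.classInner (phi a η) (phi a ν) =
      ((Finset.univ.filter fun k : stab₂ G a b => twist C k ν = η).card : ℂ) := by
  have hh0 : (h : ℂ) ≠ 0 := by
    exact_mod_cast (show h ≠ 0 by have := two_le C.hZ C.hab C.hh; omega)
  rw [phi_inner_left C (isClassFunction_isChar (phi_gen C ν))]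
  simp only [phi_real C, phi_mem C, map_sum, Complex.conj_ofReal, Finset.mul_sum]
  rw [Finset.sum_comm, Finset.card_filter, Nat.cast_sum]
  refine Finset.sum_congr rfl fun k _ => ?_
  rw [← Finset.mul_sum]
  have h1 := C.sum_rl_mul η (twist C k ν)
  simp only [rl_twist] at h1
  have h2 : ∑ u : H, (rl η u : ℂ) * (rl ν (conjH C k u) : ℂ) = if η = twist C k ν then (h : ℂ) else 0 := by
    rw [show (if η = twist C k ν then (h : ℂ) else 0) = ((if η = twist C k ν then (h : ℝ) else 0 : ℝ) : ℂ)
      by split_ifs <;> simp, ← h1]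
    push_cast
    rfl
  rw [h2]
  by_cases hk : twist C k ν = η
  · rw [if_pos hk.symm, if_pos hk, inv_mul_cancel₀ hh0, Nat.cast_one]
  · rw [if_neg (Ne.symm hk), if_neg hk, mul_zero, Nat.cast_zero]

/-- Induced characters of the kernel's nontrivial linear characters are orthonormal or equal. -/
theorem phi_inner_eq (C : Core a b H h e) {η ν : (H ⧸ center H) →* ℂˣ}
    (hν : ν ≠ 1) [Decidable (phi a η = phi a ν)] :
    Cfsg.classInner (phi a η) (phi a ν) = if phi a η = phi a ν then 1 else 0 := by
  classical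
  haveI : Fintype H := Fintype.ofFinite _
  haveI : Fintype (stab₂ G a b) := Fintype.ofFinite _
  have hself : Cfsg.classInner (phi a ν) (phi a ν) = 1 := by
    rw [phi_inner C, Finset.card_eq_one.mpr ⟨1, ?_⟩, Nat.cast_one]
    ext k
    simp only [Finset.mem_filter, Finset.mem_univ, true_and, Finset.mem_singleton]
    refine ⟨fun hk => ?_, fun hk => by rw [hk, twist_one]⟩
    by_contra hne
    exact hν (twist_free C hne hk)
  by_cases hex : ∃ k : stab₂ G a b, twist C k ν = η
  · obtain ⟨k, hk⟩ := hex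
    rw [if_pos (phi_eq_of_twist C k hk), phi_eq_of_twist C k hk, hself]
  · have h0 : Cfsg.classInner (phi a η) (phi a ν) = 0 := by
      rw [phi_inner C, Finset.card_eq_zero.mpr, Nat.cast_zero]
      rw [Finset.filter_eq_empty_iff]
      intro k _ hk
      exact hex ⟨k, hk⟩
    rw [if_neg, h0]
    intro heq
    rw [heq, hself] at h0
    exact one_ne_zero h0

theorem twist_of_phi_eq (C : Core a b H h e) {η ν : (H ⧸ center H) →* ℂˣ}
    (hν : ν ≠ 1) (heq : phi a η = phi a ν) : ∃ k : stab₂ G a b, twist C k ν = η := by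
  classical
  haveI : Fintype H := Fintype.ofFinite _
  haveI : Fintype (stab₂ G a b) := Fintype.ofFinite _
  by_contra hno
  have h1 := phi_inner C η ν
  rw [Finset.card_eq_zero.mpr (Finset.filter_eq_empty_iff.mpr fun k _ hk => hno ⟨k, hk⟩),
    phi_inner_eq C hν, if_pos heq, Nat.cast_zero] at h1
  exact one_ne_zero h1

end Cfsg.Lib.ZTGroups
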