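import Cfsg.Agent.ZTGroups.Star
import Cfsg.Agent.ZTGroups.Arith
import Cfsg.Agent.Chars.Indicator

/-!
# The kernel does not have order `q ^ 3`
-/

set_option linter.unusedSectionVars false
set_option linter.style.haveILetI false

namespace Cfsg.Lib.ZTGroups

open Subgroup MulAction
open Cfsg.Lib.OddChar.Zassenhaus Cfsg.Lib.Chars
open scoped ComplexConjugate

universe u v

variable {G : Type u} {Ω : Type v} [Group G] [Fintype G] [MulAction G Ω] [Fintype Ω]
  [IsSimpleGroup G] {a b : Ω} {H : Subgroup G} {h e : ℕ}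

set_option maxHeartbeats 1000000 in
theorem Core.not_cube (C : Core a b H h e) : h ≠ (e + 1) ^ 3 := by
  classical
  intro hcube
  haveI : Fintype H := Fintype.ofFinite _
  haveI : Fintype (stabilizer G a) := Fintype.ofFinite _
  haveI : Fintype ((H ⧸ center H) →* ℂˣ) := Fintype.ofFinite _
  obtain ⟨θ, ε, α, O, hθ, hreal, hε, hnn, hE0, hG0, hH0, hO1, hOcard, hcoef⟩ := C.exceptional hcube
  have he3 := C.e_ge
  set q : ℝ := (e : ℝ) + 1 with hq
  have hq4 : 4 ≤ q := by
    have : (3 : ℝ) ≤ e := by exact_mod_cast he3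
    linarith
  have hhq : (h : ℝ) = q ^ 3 := by rw [hcube, hq]; push_cast; ring
  have hh0 : (h : ℝ) ≠ 0 := by rw [hhq]; positivity
  have hθcf := isClassFunction_isChar (isCharacter_of_irr hθ)
  set t : G → ℝ := fun g => (θ g).re with ht
  have hθt : ∀ g, θ g = (t g : ℂ) := fun g => (Complex.conj_eq_iff_re.mp (hreal g)).symm
  have htc : ∀ g k : G, t (k * g * k⁻¹) = t g := fun g k => by simp only [ht]; rw [hθcf g k]
  have htE : ∀ g : G, nfix (Ω := Ω) g = 2 → t g = 0 := by
    intro g hg
    obtain ⟨c, d, hcd, hcd'⟩ := Finset.card_eq_two.mp hg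
    have hc : g • c = c := (Finset.mem_filter.mp (hcd' ▸ (by simp) :
      c ∈ Finset.univ.filter fun x : Ω => g • x = x)).2
    have hd : g • d = d := (Finset.mem_filter.mp (hcd' ▸ (by simp) :
      d ∈ Finset.univ.filter fun x : Ω => g • x = x)).2
    obtain ⟨k, -, -, hk⟩ := C.conj_mem_E hcd hc hd
    have hne : k⁻¹ * g * k ≠ 1 := by
      intro h'
      have hg1 : g = 1 := by
        calc g = k * (k⁻¹ * g * k) * k⁻¹ := by group
          _ = 1 := by rw [h']; group
      rw [hg1, nfix_one, C.hh] at hg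
      have := two_le C.hZ C.hab C.hh
      omega
    have h1 := hE0 _ hk hne
    have h2 := htc g k⁻¹
    rw [inv_inv] at h2
    rw [← h2]
    simp only [ht, h1, Complex.zero_re]
  have hH0' : ∑ u : H, t u = 0 := by
    have := congrArg Complex.re hH0
    simpa [ht] using this
  have hG0' : ∑ g : G, t g = 0 := by
    have := congrArg Complex.re hG0
    simpa [ht] using this
  set R := Finset.univ.filter (fun g : G => nfix (Ω := Ω) g = 0) with hR
  set d := t 1 with hd
  have hdpos : 0 < d := by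
    obtain ⟨D, hD0, hD⟩ := IsIrrCharacter.apply_one hθ
    simp only [hd, ht, hD, Complex.natCast_re]
    exact_mod_cast hD0
  obtain ⟨x₀, y₀, -, hx₀, hx₀2, -, -⟩ := C.exists_two_invol
  set u := t x₀ with hu
  have hZval : ∀ z : H, z ∈ center H → z ≠ 1 → t z = u := by
    intro z hz hz1
    obtain ⟨k, hk⟩ := C.center_trans ((C.center_iff x₀).mpr hx₀2) hx₀ hz hz1
    rw [← hk, conjH_coe, htc]
  -- the linear part of the restriction to the kernel
  set c : ((H ⧸ center H) →* ℂˣ) → ℝ := fun η => (h : ℝ)⁻¹ * ∑ v : H, t v * rl η v with hc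
  have hc1 : c 1 = 0 := by simp [hc, rl_one_char, hH0']
  have hcη : ∀ η, η ≠ 1 → c η = (α : ℝ) + if η ∈ O then ε else 0 := fun η hη => by
    simp only [hc, ht, hcoef η hη]
    rw [inv_mul_cancel_left₀ hh0]
  have hcardY : (Fintype.card ((H ⧸ center H) →* ℂˣ) : ℝ) = q ^ 2 := by
    have h1 := C.card_quot
    rw [hcube, show (e + 1) ^ 3 = (e + 1) ^ 2 * (e + 1) by ring] at h1
    rw [← Nat.card_eq_fintype_card, Cfsg.Lib.Dual.card_hom C.quot_comm,
      Nat.eq_of_mul_eq_mul_right (by omega) h1, hq]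
    push_cast; rfl
  have hsum_fun : ∀ F : ℝ → ℝ, ∑ η : (H ⧸ center H) →* ℂˣ, F (c η) =
      F 0 + (e : ℝ) * F ((α : ℝ) + ε) + ((e : ℝ) * q) * F α := by
    intro F
    have hsub : O ⊆ Finset.univ.erase 1 := fun η hη =>
      Finset.mem_erase.mpr ⟨fun h' => hO1 (h' ▸ hη), Finset.mem_univ _⟩
    rw [← Finset.add_sum_erase Finset.univ (fun η => F (c η))
      (Finset.mem_univ (1 : (H ⧸ center H) →* ℂˣ)), hc1, ← Finset.sum_sdiff hsub,
      Finset.sum_congr rfl (g := fun _ => F α) fun η hη => ?_,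
      Finset.sum_congr rfl (s₁ := O) (g := fun _ => F ((α : ℝ) + ε)) fun η hη => ?_,
      Finset.sum_const, Finset.sum_const, nsmul_eq_mul, nsmul_eq_mul, hOcard]
    · have h2 : ((Finset.univ.erase (1 : (H ⧸ center H) →* ℂˣ) \ O).card : ℝ) = e * q := by
        rw [Finset.card_sdiff_of_subset hsub, Nat.cast_sub (Finset.card_le_card hsub),
          Finset.card_erase_of_mem (Finset.mem_univ _), Finset.card_univ,
          Nat.cast_sub Fintype.card_pos, hcardY, hOcard, hq]
        push_cast; ring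
      rw [h2]; ring
    · rw [hcη η (fun h' => hO1 (h' ▸ hη)), if_pos hη]
    · obtain ⟨h1, h2⟩ := Finset.mem_sdiff.mp hη
      rw [hcη η (Finset.mem_erase.mp h1).1, if_neg h2, add_zero]
  set s : ℝ := ε + (α : ℝ) * (q + 1) with hs
  have hsumc : ∑ η : (H ⧸ center H) →* ℂˣ, c η = e * s := by
    have h1 := hsum_fun id
    simp only [id] at h1
    rw [h1, hs]; ring
  have hsumc2 : ∑ η : (H ⧸ center H) →* ℂˣ, c η * c η =
      e * ((ε + α) ^ 2 + q * (α : ℝ) ^ 2) := by
    rw [hsum_fun fun x => x * x]; ring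
  set P : H → ℝ := fun w => ∑ η : (H ⧸ center H) →* ℂˣ, c η * rl η w with hP
  have hPZ : ∀ z : H, z ∈ center H → P z = e * s := fun z hz => by
    simp only [hP, rl_center _ hz, mul_one, hsumc]
  have hqz : (Fintype.card (center H) : ℝ) = q := by
    rw [← Nat.card_eq_fintype_card, C.card_center, hq]; push_cast; rfl
  have hPsum : ∑ z : center H, t (z : H) = q * (e * s) := by
    have h1 : ∀ w : H, ∑ η : (H ⧸ center H) →* ℂˣ, rl η w = if w ∈ center H then q ^ 2 else 0 := by
      intro w
      split_ifs with hw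
      · simp only [rl_center _ hw, Finset.sum_const, Finset.card_univ, nsmul_eq_mul, mul_one, hcardY]
      · exact C.sum_rl_char hw
    have h2 : P 1 = (h : ℝ)⁻¹ * ∑ v : H, t v * (if v ∈ center H then q ^ 2 else 0) := by
      simp only [hP, rl_apply_one, mul_one, hc, ← Finset.mul_sum]
      rw [Finset.sum_comm]
      simp only [← Finset.mul_sum, h1]
    rw [hPZ 1 (one_mem _)] at h2
    simp only [mul_ite, mul_zero, ← Finset.sum_filter, ← Finset.sum_mul] at h2
    rw [← Finset.sum_subtype (p := fun v : H => v ∈ center H) (Finset.univ.filter fun v : H => v ∈ center H)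
      (fun v => by simp) (fun v : H => t v), h2, hhq]
    field_simp
  have hZsplit : ∀ F : H → ℝ, (∀ z : H, z ∈ center H → z ≠ 1 → F z = F x₀) →
      ∑ z : center H, F z = F 1 + e * F x₀ := by
    intro F hF
    rw [← Finset.add_sum_erase Finset.univ (fun z : center H => F z) (Finset.mem_univ 1)]
    simp only [OneMemClass.coe_one]
    rw [Finset.sum_congr rfl (g := fun _ => F x₀) fun (z : center H) hz =>
      hF (z : H) z.2 fun h' => (Finset.mem_erase.mp hz).1 (Subtype.ext h'), Finset.sum_const,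
      Finset.card_erase_of_mem (Finset.mem_univ _), Finset.card_univ, ← Nat.card_eq_fintype_card,
      C.card_center, Nat.add_sub_cancel, nsmul_eq_mul]
  have hdu : d + e * u = q * (e * s) := by
    rw [← hPsum, hZsplit (fun z => t z) fun z hz hz1 => (hZval z hz hz1).trans rfl]
    rfl
  -- the indicator
  obtain ⟨ν, hν, hνsum⟩ : ∃ ν : ℝ, (ν = 1 ∨ ν = -1) ∧ ∑ g : G, t (g * g) = ν * Nat.card G := by
    have hG : (Nat.card G : ℂ) ≠ 0 := by exact_mod_cast Nat.card_pos.ne'
    rcases indicator_irr hθ with ⟨⟨g, hg⟩, -⟩ | ⟨-, hI⟩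
    · exact absurd (Complex.conj_eq_iff_im.mp (hreal g)) hg
    rcases hI with hI | ⟨hI, -⟩
    · refine ⟨1, Or.inl rfl, ?_⟩
      have := congrArg Complex.re ((inv_mul_eq_iff_eq_mul₀ hG).mp hI)
      simpa [ht] using this
    · refine ⟨-1, Or.inr rfl, ?_⟩
      have := congrArg Complex.re ((inv_mul_eq_iff_eq_mul₀ hG).mp hI)
      simpa [ht] using this
  have hhnat : 2 ≤ h := two_le C.hZ C.hab C.hh
  have hRt : ∑ g ∈ R, t g = (h : ℝ) * d := by
    have h1 := C.sum_split t htc
    rw [hG0', hH0', Finset.sum_eq_zero (s := Finset.univ.filter fun g : G => nfix (Ω := Ω) g = 2)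
      fun g hg => htE g (Finset.mem_filter.mp hg).2, nsmul_eq_mul, ← hR, ← hd] at h1
    push_cast at h1
    linarith
  have hsqfix : ∀ g : G, Odd (orderOf g) → ∀ c : Ω, (g * g) • c = c → g • c = c := by
    rintro g ⟨k, hk⟩ c hc
    have h1 : (g * g) ^ (k + 1) • c = c := mem_stabilizer_iff.mp (pow_mem (mem_stabilizer_iff.mpr hc) _)
    rwa [← sq, ← pow_mul, show 2 * (k + 1) = orderOf g + 1 by omega, pow_add, pow_orderOf_eq_one,
      one_mul, pow_one] at h1
  have hR2 : ∑ g ∈ R, t (g * g) = (h : ℝ) * d := by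
    rw [← hRt]
    have hmap : ∀ g ∈ R, g * g ∈ R := by
      intro g hg
      rw [hR, Finset.mem_filter, nfix_eq_zero] at hg ⊢
      exact ⟨Finset.mem_univ _, fun c hc => hg.2 c (hsqfix g (C.odd_of_fpf hg.2) c hc)⟩
    have hinj : Set.InjOn (fun g : G => g * g) (R : Set G) := by
      intro g hg g' hg' heq
      rw [Finset.mem_coe, hR, Finset.mem_filter, nfix_eq_zero] at hg hg'
      obtain ⟨k, hk⟩ := C.odd_of_fpf hg.2
      obtain ⟨k', hk'⟩ := C.odd_of_fpf hg'.2
      simp only at heq
      have hN : ∀ x : G, ∀ j, orderOf x = 2 * j + 1 → ∀ M : ℕ, orderOf x ∣ 2 * M + 1 →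
          (x * x) ^ (M + 1) = x := fun x j _ M hM => by
        rw [← sq, ← pow_mul, show 2 * (M + 1) = 2 * M + 1 + 1 by ring, pow_succ,
          orderOf_dvd_iff_pow_eq_one.mp hM, one_mul]
      have hM : ∃ M, orderOf g ∣ 2 * M + 1 ∧ orderOf g' ∣ 2 * M + 1 := by
        refine ⟨2 * k * k' + k + k', ⟨orderOf g', ?_⟩, ⟨orderOf g, ?_⟩⟩ <;> rw [hk, hk'] <;> ring
      obtain ⟨M, hM1, hM2⟩ := hM
      rw [← hN g k hk M hM1, ← hN g' k' hk' M hM2, heq]
    rw [← Finset.sum_image (f := t) (g := fun g : G => g * g) hinj,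
      Finset.eq_of_subset_of_card_le (Finset.image_subset_iff.mpr hmap)
        (le_of_eq (Finset.card_image_of_injOn hinj).symm)]
  have hH2 : ∑ w : H, t ((w : G) * w) = q * d + ((h : ℝ) - q) * u := by
    rw [← Finset.sum_filter_add_sum_filter_not Finset.univ (fun w : H => w ∈ center H),
      Finset.sum_congr rfl (g := fun _ => d) fun w hw => ?_,
      Finset.sum_congr rfl (s₁ := Finset.univ.filter fun w : H => ¬ w ∈ center H) (g := fun _ => u)
        fun w hw => ?_, Finset.sum_const, Finset.sum_const, nsmul_eq_mul, nsmul_eq_mul]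
    · have h1 : ((Finset.univ.filter fun w : H => w ∈ center H).card : ℝ) = q := by
        rw [← Fintype.card_subtype, ← hqz]
      have h2 := Finset.card_filter_add_card_filter_not (s := (Finset.univ : Finset H))
        (fun w : H => w ∈ center H)
      rw [Finset.card_univ, ← Nat.card_eq_fintype_card, C.card_H] at h2
      have h3 : ((Finset.univ.filter fun w : H => ¬ w ∈ center H).card : ℝ) = (h : ℝ) - q := by
        rw [← h1, ← h2]; push_cast; ring
      rw [h1, h3]
    · have h1 : (w : G) * w ≠ 1 := fun h' =>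
        (Finset.mem_filter.mp hw).2 ((C.center_iff w).mpr (Subtype.ext h'))
      exact hZval (w * w) (C.sq_central w) fun h' => h1 (congrArg Subtype.val h')
    · have h1 : (w : G) * w = 1 :=
        congrArg Subtype.val ((C.center_iff w).mp (Finset.mem_filter.mp hw).2)
      rw [h1]
  have hFS : ν * ((h + 1) * (h * e)) = ((h : ℝ) + 1) * (q * d + ((h : ℝ) - q) * u) := by
    have h1 := C.sum_split (fun g => t (g * g)) fun g k => by
      rw [show k * g * k⁻¹ * (k * g * k⁻¹) = k * (g * g) * k⁻¹ by group, htc]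
    rw [hνsum, card_group C.hZ C.hab C.hh C.he, hH2, nsmul_eq_mul, one_mul, ← hd, ← hR, hR2,
      Finset.sum_eq_zero (s := Finset.univ.filter fun g : G => nfix (Ω := Ω) g = 2) fun g hg => ?_] at h1
    · push_cast at h1
      linear_combination h1
    · have hg2 := (Finset.mem_filter.mp hg).2
      obtain ⟨c, d', hcd, hcd'⟩ := Finset.card_eq_two.mp hg2
      have hc' : g • c = c := (Finset.mem_filter.mp (hcd' ▸ (by simp) :
        c ∈ Finset.univ.filter fun x : Ω => g • x = x)).2
      have hd' : g • d' = d' := (Finset.mem_filter.mp (hcd' ▸ (by simp) :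
        d' ∈ Finset.univ.filter fun x : Ω => g • x = x)).2
      have hord : Odd (orderOf g) := by
        have h2 : orderOf g ∣ e := by
          rw [← C.he, ← card_stab₂ C.hZ C.hab hcd]
          have h4 := orderOf_dvd_natCard (⟨g, hc', hd'⟩ : stab₂ G c d')
          rwa [← Subgroup.orderOf_coe] at h4
        exact C.hodd.of_dvd_nat h2
      refine htE _ ?_
      rw [← hg2, nfix, nfix]
      congr 1
      refine Finset.filter_congr fun x _ => ⟨hsqfix g hord x, fun hx => ?_⟩
      rw [mul_smul, hx, hx]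
  have hu' : u = ν * q - s := by
    have hh1 : ((h : ℝ) + 1) ≠ 0 := by positivity
    have h1 : ν * (h * e) = q * d + ((h : ℝ) - q) * u := by
      apply mul_left_cancel₀ hh1; linear_combination hFS
    rw [hhq] at h1
    have he0 : (e : ℝ) ≠ 0 := by exact_mod_cast (show e ≠ 0 by omega)
    have h2 : q ^ 2 * e * (ν * q - s - u) = 0 := by
      have he' : (e : ℝ) = q - 1 := by rw [hq]; ring
      rw [he'] at h1 hdu ⊢
      linear_combination h1 + q * hdu
    have h3 := (mul_eq_zero.mp h2).resolve_left (mul_ne_zero (by positivity) he0)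
    linarith
  set w : ℝ := s - ν with hw
  have heq' : (e : ℝ) = q - 1 := by rw [hq]; ring
  have hd' : d = e * (s + q * w) := by rw [hw]; linear_combination hdu - (e : ℝ) * hu'
  -- the norm
  have hPmul : ∀ F : H → ℝ, ∑ v : H, F v * P v =
      ∑ η : (H ⧸ center H) →* ℂˣ, c η * ∑ v : H, F v * rl η v := fun F => by
    simp only [hP, Finset.mul_sum]
    rw [Finset.sum_comm]
    exact Finset.sum_congr rfl fun η _ => Finset.sum_congr rfl fun v _ => by ring
  have htP : ∑ v : H, t v * P v = (h : ℝ) * ∑ η : (H ⧸ center H) →* ℂˣ, c η * c η := by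
    rw [hPmul, Finset.mul_sum]
    refine Finset.sum_congr rfl fun η _ => ?_
    rw [show ∑ v : H, t v * rl η v = (h : ℝ) * c η by simp only [hc]; rw [mul_inv_cancel_left₀ hh0]]
    ring
  have hPP : ∑ v : H, P v * P v = (h : ℝ) * ∑ η : (H ⧸ center H) →* ℂˣ, c η * c η := by
    rw [hPmul, Finset.mul_sum]
    refine Finset.sum_congr rfl fun η _ => ?_
    have h1 : ∑ v : H, P v * rl η v = (h : ℝ) * c η := by
      simp only [hP, Finset.sum_mul, mul_assoc]
      rw [Finset.sum_comm]
      simp only [← Finset.mul_sum, C.sum_rl_mul, mul_ite, mul_zero]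
      rw [Finset.sum_ite_eq' Finset.univ η, if_pos (Finset.mem_univ _), mul_comm]
    rw [h1]; ring
  have hA : (h : ℝ) * e * ((ε + α) ^ 2 + q * (α : ℝ) ^ 2 + w ^ 2) ≤ ∑ v : H, t v * t v := by
    have h1 : ∑ v : H, (t v - P v) ^ 2 =
        ∑ v : H, t v * t v - (h : ℝ) * ∑ η : (H ⧸ center H) →* ℂˣ, c η * c η := by
      have h0 : ∀ v : H, (t v - P v) ^ 2 = t v * t v - (t v * P v + t v * P v) + P v * P v :=
        fun v => by ring
      rw [Finset.sum_congr rfl fun v _ => h0 v, Finset.sum_add_distrib, Finset.sum_sub_distrib,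
        Finset.sum_add_distrib, htP, hPP]
      ring
    have h2 : ∑ z : center H, (t (z : H) - P z) ^ 2 ≤ ∑ v : H, (t v - P v) ^ 2 := by
      rw [← Finset.sum_subtype (p := fun v : H => v ∈ center H) (Finset.univ.filter fun v : H => v ∈ center H)
        (fun v => by simp) (fun v : H => (t v - P v) ^ 2)]
      exact Finset.sum_le_sum_of_subset_of_nonneg (Finset.subset_univ _) fun v _ _ => sq_nonneg _
    rw [hZsplit (fun z => (t z - P z) ^ 2) fun z hz hz1 => by
      rw [hPZ z hz, hPZ x₀ ((C.center_iff x₀).mpr hx₀2), hZval z hz hz1]] at h2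
    rw [h1, hsumc2, hPZ 1 (one_mem _), hPZ x₀ ((C.center_iff x₀).mpr hx₀2)] at h2
    simp only [OneMemClass.coe_one, ← hd, ← hu] at h2
    rw [hd', hu', hw, hhq] at *
    rw [heq'] at h2 ⊢
    nlinarith [h2]
  have hG2 : ((h : ℝ) + 1) * ∑ v : H, t v * t v ≤ ((h : ℝ) + 1) * (h * e) + h * (d * d) := by
    have h1 := classInner_self_irr hθ
    rw [classInner_def] at h1
    have hG : (Nat.card G : ℂ) ≠ 0 := by exact_mod_cast Nat.card_pos.ne'
    rw [inv_mul_eq_iff_eq_mul₀ hG, mul_one] at h1
    have h3 : ∑ g : G, t g * t g = (Nat.card G : ℝ) := by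
      have h4 := congrArg Complex.re h1
      simpa [hθt] using h4
    rw [C.sum_split (fun g => t g * t g) fun g k => by rw [htc], card_group C.hZ C.hab C.hh C.he,
      nsmul_eq_mul, ← hd] at h3
    push_cast at h3
    have h5 : 0 ≤ ∑ g ∈ Finset.univ.filter (fun g : G => nfix (Ω := Ω) g = 0), t g * t g :=
      Finset.sum_nonneg fun g _ => mul_self_nonneg _
    have h6 : 0 ≤ ∑ g ∈ Finset.univ.filter (fun g : G => nfix (Ω := Ω) g = 2), t g * t g :=
      Finset.sum_nonneg fun g _ => mul_self_nonneg _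
    nlinarith
  have hfinal : (q ^ 3 + 1) * ((ε + α) ^ 2 - 1 + q * (α : ℝ) ^ 2 + w ^ 2) ≤
      (q - 1) * (s + q * w) ^ 2 := by
    have h1 := le_trans (mul_le_mul_of_nonneg_left hA (show (0 : ℝ) ≤ h + 1 by positivity)) hG2
    rw [hd', hhq] at h1
    rw [← heq']
    refine le_of_mul_le_mul_left ?_ (show (0 : ℝ) < q ^ 3 * e by
      have : (0 : ℝ) < e := by exact_mod_cast (show 0 < e by omega)
      positivity)
    nlinarith [h1]
  -- the trivial case
  have hαcase : ((α : ℝ) = 0 ∧ ε = 1 ∧ ν = -1) ∨ 1 ≤ (α : ℝ) := by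
    rcases Nat.eq_zero_or_pos α with hα | hα
    · left
      subst hα
      have hε1 : ε = 1 := by
        rcases hε with h' | h'
        · exact h'
        · rw [h', Nat.cast_zero] at hnn; norm_num at hnn
      refine ⟨Nat.cast_zero, hε1, hν.resolve_left fun hν1 => ?_⟩
      have hs1 : s = 1 := by rw [hs, hε1]; simp
      have hud : u = d := by
        rw [hd', hu', hw, hs1, hν1, heq']; ring
      have hθker : (x₀ : G) ∈ kerSubgroup θ (isCharacter_of_irr hθ) := by
        rw [mem_kerSubgroup, hθt, hθt 1]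
        exact_mod_cast hud
      haveI := kerSubgroup_normal (isCharacter_of_irr hθ)
      rcases Subgroup.Normal.eq_bot_or_eq_top (H := kerSubgroup θ (isCharacter_of_irr hθ)) inferInstance
        with hb | hb
      · rw [hb, Subgroup.mem_bot] at hθker
        exact hx₀ (Subtype.ext hθker)
      · have hall : ∀ g : G, t g = d := fun g => by
          have h1 := (mem_kerSubgroup (isCharacter_of_irr hθ) g).mp (hb ▸ Subgroup.mem_top g)
          simp only [hd, ht, h1]
        rw [Finset.sum_congr rfl fun g _ => hall g, Finset.sum_const, Finset.card_univ, nsmul_eq_mul]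
          at hG0'
        rcases mul_eq_zero.mp hG0' with h' | h'
        · exact Fintype.card_ne_zero (α := G) (by exact_mod_cast h')
        · linarith
    · right; exact_mod_cast hα
  exact cube_inequality hq4 hε hν hαcase hfinal

end Cfsg.Lib.ZTGroups
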