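import Cfsg.Agent.ZTGroups.Tori

/-!
# Counting pairs of involutions by their product
-/

set_option linter.unusedSectionVars false
set_option linter.style.haveILetI false

namespace Cfsg.Lib.ZTGroups

open Subgroup MulAction
open Cfsg.Lib.OddChar.Zassenhaus

universe u v

variable {G : Type u} {Ω : Type v} [Group G] [Fintype G] [MulAction G Ω] [Fintype Ω]
  [IsSimpleGroup G] {a b : Ω} {H : Subgroup G} {h e : ℕ}

/-- The number of involutions `s` with `s * g` an involution. -/
noncomputable def pairs (g : G) : ℕ := Nat.card {s : G // orderOf s = 2 ∧ orderOf (s * g) = 2}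

theorem pairs_conj (g k : G) : pairs (k * g * k⁻¹) = pairs g := by
  refine Nat.card_congr (Equiv.subtypeEquiv (MulAut.conj k⁻¹).toEquiv fun s => ?_)
  have h1 : ∀ x : G, orderOf (k⁻¹ * x * k) = orderOf x := fun x => by
    have := orderOf_injective (MulAut.conj k⁻¹).toMonoidHom (MulAut.conj k⁻¹).injective x
    simpa using this
  simp only [MulEquiv.toEquiv_eq_coe, MulEquiv.coe_toEquiv, MulAut.conj_apply, inv_inv]
  rw [h1, ← h1 (s * (k * g * k⁻¹)), show k⁻¹ * (s * (k * g * k⁻¹)) * k = k⁻¹ * s * k * g by group]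

theorem sum_pairs : ∑ g : G, pairs g = Nat.card {s : G // orderOf s = 2} * Nat.card {s : G // orderOf s = 2} := by
  classical
  rw [← Nat.card_prod]
  unfold pairs
  rw [← Nat.card_sigma]
  refine Nat.card_congr
    { toFun := fun p => (⟨p.2.1, p.2.2.1⟩, ⟨p.2.1 * p.1, p.2.2.2⟩)
      invFun := fun p => ⟨(p.1 : G)⁻¹ * p.2, p.1, p.1.2, by rw [mul_inv_cancel_left]; exact p.2.2⟩
      left_inv := fun ⟨g, s, hs⟩ => by
        refine Sigma.subtype_ext ?_ rfl
        simp
      right_inv := fun p => by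
        refine Prod.ext (Subtype.ext rfl) (Subtype.ext ?_)
        simp }

theorem inverts_of_pair {g s : G} (h1 : orderOf s = 2) (h2 : orderOf (s * g) = 2) :
    s * g * s⁻¹ = g⁻¹ := by
  have h3 := mul_self_of_orderOf h2
  have h4 : s * g * s = g⁻¹ := eq_inv_of_mul_eq_one_left (by rw [← h3]; group)
  rw [show s⁻¹ = s from inv_eq_of_mul_eq_one_right (mul_self_of_orderOf h1), h4]

theorem pair_of_inverts {g s : G} (h1 : orderOf s = 2) (h2 : s * g ≠ 1) (h3 : s * g * s⁻¹ = g⁻¹) :
    orderOf (s * g) = 2 := by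
  refine orderOf_eq_two h2 ?_
  rw [show s⁻¹ = s from inv_eq_of_mul_eq_one_right (mul_self_of_orderOf h1)] at h3
  rw [← mul_assoc, h3, inv_mul_cancel]

theorem pairs_one : pairs (1 : G) = Nat.card {s : G // orderOf s = 2} :=
  Nat.card_congr (Equiv.subtypeEquivRight fun s => by simp)

open Classical in
theorem Core.pairs_H (C : Core a b H h e) {u : H} (hu : u ≠ 1) :
    pairs (u : G) = if u * u = 1 then e - 1 else 0 := by
  classical
  have hu' : (u : G) ≠ 1 := fun h' => hu (Subtype.ext h')
  split_ifs with hu2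
  · have hu2' : (u : G) * u = 1 := congrArg Subtype.val hu2
    have hmem : ∀ s : G, orderOf s = 2 → orderOf (s * u) = 2 → s ∈ H ∧ s ≠ u := by
      intro s hs hsu
      have h1 := inverts_of_pair hs hsu
      rw [show (u : G)⁻¹ = u from inv_eq_of_mul_eq_one_right hu2', mul_inv_eq_iff_eq_mul] at h1
      refine ⟨C.cent_le u.2 hu' (mem_centralizer_singleton_iff.mpr h1), fun h' => ?_⟩
      rw [h', hu2', orderOf_one] at hsu
      omega
    have hc := C.card_invol_fixing
    rw [pairs, ← hc, Nat.card_eq_fintype_card, Fintype.card_subtype, Nat.card_eq_fintype_card, Fintype.card_subtype,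
      ← Finset.card_erase_of_mem (s := Finset.univ.filter fun s : G => orderOf s = 2 ∧ s • a = a) (a := (u : G))]
    · congr 1
      ext s
      simp only [Finset.mem_erase, Finset.mem_filter, Finset.mem_univ, true_and]
      refine ⟨fun hs => ⟨(hmem s hs.1 hs.2).2, hs.1, C.hHa (hmem s hs.1 hs.2).1⟩, fun ⟨hne, hs, hsa⟩ => ⟨hs, ?_⟩⟩
      have hcm := (C.invol_central s (C.invol_mem hs hsa) (fun h' => by rw [h', orderOf_one] at hs; omega)
        (mul_self_of_orderOf hs)).1 u u.2
      refine pair_of_inverts hs (fun h' => hne ?_) ?_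
      · calc s = s * ((u : G) * u) := by rw [hu2', mul_one]
          _ = u := by rw [← mul_assoc, h', one_mul]
      · rw [hcm, mul_inv_cancel_right, inv_eq_of_mul_eq_one_right hu2']
    · simp only [Finset.mem_filter, Finset.mem_univ, true_and]
      exact ⟨orderOf_eq_two hu' hu2', C.hHa u.2⟩
  · rw [pairs, Nat.card_eq_zero]
    refine Or.inl ⟨fun ⟨s, hs, hsu⟩ => hu2 (Subtype.ext ?_)⟩
    have h1 : s * (s * u) = (u : G) := by rw [← mul_assoc, mul_self_of_orderOf hs, one_mul]
    exact mul_self_of_orderOf (strongly_real_kernel C.hZ C.hab C.hh C.he C.hodd C.hHa C.hHcard C.hHfix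
      u.2 hu' hs hsu h1)

theorem Core.pairs_E (C : Core a b H h e) {g : G} (hg : g ∈ stab₂ G a b) (hg1 : g ≠ 1) :
    pairs g = e := by
  have hga : g • a = a := hg.1
  have hgb : g • b = b := hg.2
  refine Eq.trans ?_ ((card_swappers C.hZ C.hab (C.he.symm ▸ C.hodd) C.hab).trans C.he)
  refine Nat.card_congr (Equiv.subtypeEquivRight fun s => and_congr_right fun hs => ⟨fun hsg => ?_, fun hsa => ?_⟩)
  · have h1 := inverts_of_pair hs hsg
    have hgs : g • s • a = s • a := by
      have h2 : s * g = g⁻¹ * s := mul_inv_eq_iff_eq_mul.mp h1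
      have h3 : g⁻¹ • s • a = s • a := by rw [← mul_smul, ← h2, mul_smul, hga]
      exact (inv_smul_eq_iff.mp h3).symm
    by_contra hne
    have hsa : s • a ≠ a := by
      intro hsa
      have hsH := C.invol_mem hs hsa
      have hsgH := C.invol_mem hsg (by rw [mul_smul, hga, hsa])
      have hgH : g ∈ H := by simpa using mul_mem (inv_mem hsH) hsgH
      exact C.hab (C.hHfix g hgH hg1 b hgb).symm
    exact hg1 (eq_one_of_three C.hZ C.hab hsa hne hga hgb hgs)
  · have hs2 := mul_self_of_orderOf hs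
    have hsb : s • b = a := by rw [← hsa, ← mul_smul, hs2, one_smul]
    have h1 := ((swap_sq C.hZ C.hab (C.he.symm ▸ C.hodd) C.hab).2 s hsa hsb).2 g hg
    rw [show s⁻¹ = s from inv_eq_of_mul_eq_one_right hs2] at h1
    refine pair_of_inverts hs (fun h' => ?_) (by rw [show s⁻¹ = s from inv_eq_of_mul_eq_one_right hs2]; exact h1)
    have h2 : (s * g) • a = a := by rw [h', one_smul]
    rw [mul_smul, hga, hsa] at h2
    exact C.hab h2.symm

theorem Core.pairs_inverted (C : Core a b H h e) {g s : G} (hg : IsInverted Ω g s) :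
    pairs g = Nat.card (centralizer ({g} : Set G)) := by
  have hs := hg.invol
  have hs2 := mul_self_of_orderOf hs
  have hsi : s⁻¹ = s := inv_eq_of_mul_eq_one_right hs2
  have hinv := C.inverts_centralizer hg
  obtain ⟨c, hc, -⟩ := C.exists_unique_fix hs
  have hsA : ∀ x ∈ centralizer ({g} : Set G), s * x ≠ 1 := by
    intro x hx h'
    have hsx : s = x⁻¹ := eq_inv_of_mul_eq_one_left h'
    exact C.semiregular hg.fpf (inv_mem hx) (fun h'' => by rw [hsx, h'', orderOf_one] at hs; omega) c (hsx ▸ hc)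
  refine Nat.card_congr
    { toFun := fun t => ⟨s * t, ?_⟩
      invFun := fun x => ⟨s * x, pair_of_inverts hs (hsA _ x.2) (hinv _ x.2), ?_⟩
      left_inv := fun t => Subtype.ext (by
        show s * (s * (t : G)) = (t : G)
        rw [← mul_assoc, hs2, one_mul])
      right_inv := fun x => Subtype.ext (by
        show s * (s * x) = (x : G)
        rw [← mul_assoc, hs2, one_mul]) }
  · have h1 := inverts_of_pair t.2.1 t.2.2
    rw [mem_centralizer_singleton_iff]
    calc s * t * g = s * ((t : G) * g * (t : G)⁻¹) * t := by group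
      _ = (s * g⁻¹ * s⁻¹) * (s * t) := by rw [h1]; group
      _ = g * (s * t) := by
        rw [show s * g⁻¹ * s⁻¹ = (s * g * s⁻¹)⁻¹ by group, hg.inv, inv_inv]
  · rw [mul_assoc]
    have hxg : (x : G) * g ∈ centralizer ({g} : Set G) :=
      mul_mem x.2 (mem_centralizer_singleton_iff.mpr rfl)
    exact pair_of_inverts hs (hsA _ hxg) (hinv _ hxg)

theorem Core.pairs_not_inverted (C : Core a b H h e) {g : G} (hfree : ∀ c : Ω, g • c ≠ c)
    (hg : ¬ ∃ s, IsInverted Ω g s) : pairs g = 0 := by
  rw [pairs, Nat.card_eq_zero]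
  exact Or.inl ⟨fun ⟨s, hs, hsg⟩ => hg ⟨s, hfree, hs, inverts_of_pair hs hsg⟩⟩

theorem Core.sum_pairs_H (C : Core a b H h e) [Fintype H] :
    ∑ u : H, pairs (u : G) = Nat.card {s : G // orderOf s = 2} + e * (e - 1) := by
  classical
  rw [← Finset.add_sum_erase Finset.univ (fun u : H => pairs (u : G)) (Finset.mem_univ 1)]
  simp only [OneMemClass.coe_one, pairs_one]
  congr 1
  rw [Finset.sum_congr rfl fun u hu => C.pairs_H (Finset.mem_erase.mp hu).1, ← Finset.sum_filter,
    Finset.sum_const, smul_eq_mul]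
  congr 1
  have h1 : (Finset.univ.erase (1 : H)).filter (fun u => u * u = 1) =
      (Finset.univ.filter fun u : H => u ∈ center H).erase 1 := by
    ext u; simp [C.center_iff]
  rw [h1, Finset.card_erase_of_mem (by simp [one_mem]), ← Fintype.card_subtype, ← Nat.card_eq_fintype_card,
    C.card_center, Nat.add_sub_cancel]

/-- The pairs whose product has no fixed point. -/
theorem Core.sum_pairs_free [DecidableEq Ω] (C : Core a b H h e) (hsq : h = (e + 1) ^ 2) :
    2 * ∑ g ∈ Finset.univ.filter (fun g : G => nfix (Ω := Ω) g = 0), pairs g = Nat.card G * (e + 1) := by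
  classical
  haveI : Fintype H := Fintype.ofFinite _
  have hh2 := two_le C.hZ C.hab C.hh
  obtain ⟨hn2, -, -⟩ := counts C.hZ C.hab C.hh C.he hh2
  have hI := card_involutions C.hZ C.hab C.hh C.he C.hodd
  rw [if_pos C.even_h] at hI
  have h1 := C.sum_split (fun g => (pairs g : ℤ)) fun g k => by rw [pairs_conj]
  have h2 : ∀ g ∈ Finset.univ.filter (fun g : G => nfix (Ω := Ω) g = 2), (pairs g : ℤ) = e := by
    intro g hg
    have hg' := (Finset.mem_filter.mp hg).2
    obtain ⟨c, d, hcd, hcd'⟩ := Finset.card_eq_two.mp hg'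
    have hc : g • c = c := (Finset.mem_filter.mp (hcd' ▸ (by simp) :
      c ∈ Finset.univ.filter fun x : Ω => g • x = x)).2
    have hd : g • d = d := (Finset.mem_filter.mp (hcd' ▸ (by simp) :
      d ∈ Finset.univ.filter fun x : Ω => g • x = x)).2
    obtain ⟨k, -, -, hk⟩ := C.conj_mem_E hcd hc hd
    have hne : k⁻¹ * g * k ≠ 1 := by
      intro h'
      have hg1 : g = 1 := by
        calc g = k * (k⁻¹ * g * k) * k⁻¹ := by group
          _ = 1 := by rw [h']; group
      rw [hg1, nfix_one, C.hh] at hg'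
      omega
    have h3 := pairs_conj g k⁻¹
    rw [inv_inv, C.pairs_E hk hne] at h3
    exact_mod_cast h3.symm
  rw [Finset.sum_congr rfl h2, Finset.sum_const, nsmul_eq_mul, nsmul_eq_mul, ← Nat.cast_sum, ← Nat.cast_sum,
    ← Nat.cast_sum, sum_pairs, C.sum_pairs_H, pairs_one, hI] at h1
  rw [card_group C.hZ C.hab C.hh C.he]
  have he := C.e_ge
  zify [show 1 ≤ e by omega] at h1 hn2 hsq ⊢
  push_cast at h1 hn2 hsq ⊢
  linear_combination (-2 : ℤ) * h1 - (e : ℤ) * hn2 - (2 * ((h : ℤ) + 1) * e * e) * 0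

end Cfsg.Lib.ZTGroups
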