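import Cfsg.Agent.ZTGroups.LinChars
import Cfsg.Agent.Chars.TI

/-!
# The exceptional character attached to a kernel of order `q ^ 3`
-/

set_option linter.unusedSectionVars false
set_option linter.style.haveILetI false

namespace Cfsg.Lib.ZTGroups

open Subgroup MulAction
open Cfsg.Lib.OddChar.Zassenhaus Cfsg.Lib.Chars
open scoped ComplexConjugate

universe u v

variable {G : Type u} {Ω : Type v} [Group G] [Fintype G] [MulAction G Ω] [Fintype Ω]
  [IsSimpleGroup G] {a b : Ω} {H : Subgroup G} {h e : ℕ}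

theorem sub_eq_sub_irr {μ ν μ' ν' : Cfsg.IrrCharacter G} (hne : μ ≠ ν)
    (heq : (μ : G → ℂ) - (ν : G → ℂ) = (μ' : G → ℂ) - (ν' : G → ℂ)) : ν' = ν := by
  classical
  by_contra hν
  have h1 := congrArg (fun f => Cfsg.classInner f (ν : G → ℂ)) heq
  simp only [classInner_sub_left, classInner_irrCharacter, if_neg hne, if_neg hν, if_pos] at h1
  split_ifs at h1 <;> norm_num at h1

variable [Fintype (stabilizer G a)]

theorem Core.sum_phi (C : Core a b H h e) {η : (H ⧸ center H) →* ℂˣ} (hη : η ≠ 1) [Fintype H] :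
    ∑ u : H, phi a η ⟨u, C.hHa u.2⟩ = 0 := by
  classical
  haveI : Fintype (stab₂ G a b) := Fintype.ofFinite _
  simp only [phi_mem C]
  rw [Finset.sum_comm]
  refine Finset.sum_eq_zero fun k _ => ?_
  have h1 := C.sum_rl (η := twist C k η) (twist_ne_one C k hη)
  simp only [rl_twist] at h1
  exact_mod_cast h1

theorem Core.indFun_phi_isometry (C : Core a b H h e) {α β : stabilizer G a → ℂ}
    (hα1 : α 1 = 0) (hα : ∀ g : stabilizer G a, (g : G) ∉ H → α g = 0)
    (hβc : Cfsg.IsClassFunction (stabilizer G a) β)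
    (hβ : ∀ g : stabilizer G a, (g : G) ∉ H → β g = 0) :
    Cfsg.classInner (Cfsg.indFun (stabilizer G a) α) (Cfsg.indFun (stabilizer G a) β) =
      Cfsg.classInner α β := by
  classical
  have hTI := (kernel_ti C.hZ C.hab C.hh C.hHa C.hHcard C.hHfix).2.2.2.1
  rw [frobenius_reciprocity _ _ (isClassFunction_indFun _ β), classInner_def, classInner_def]
  refine congrArg _ (Finset.sum_congr rfl fun x _ => ?_)
  by_cases hx : (x : G) ∈ H
  · by_cases h1 : x = 1
    · rw [h1, hα1, zero_mul, zero_mul]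
    · rw [indFun_TI_apply' (stabilizer G a) (H : Set G) hTI hβc hβ x hx h1]
  · rw [hα x hx, zero_mul, zero_mul]

set_option maxHeartbeats 1000000 in
/-- When the kernel has order `q ^ 3` there is a real irreducible character vanishing on the two-point
stabiliser, orthogonal to the kernel, with prescribed multiplicities of the linear characters. -/
theorem Core.exceptional (C : Core a b H h e) [Fintype H] [DecidableEq ((H ⧸ center H) →* ℂˣ)] (hcube : h = (e + 1) ^ 3) :
    ∃ (θ : G → ℂ) (ε : ℝ) (α : ℕ) (O : Finset ((H ⧸ center H) →* ℂˣ)),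
      Cfsg.IsIrrCharacter G θ ∧ (∀ g, conj (θ g) = θ g) ∧ (ε = 1 ∨ ε = -1) ∧ 0 ≤ ε + α ∧
      (∀ g ∈ stab₂ G a b, g ≠ 1 → θ g = 0) ∧ (∑ g : G, θ g = 0) ∧ (∑ u : H, θ u = 0) ∧
      (1 : (H ⧸ center H) →* ℂˣ) ∉ O ∧ O.card = e ∧
      ∀ η : (H ⧸ center H) →* ℂˣ, η ≠ 1 →
        ∑ u : H, (θ u).re * rl η u = h * ((α : ℝ) + if η ∈ O then ε else 0) := by
  classical
  haveI : Fintype (stab₂ G a b) := Fintype.ofFinite _
  haveI : Fintype ((H ⧸ center H) →* ℂˣ) := Fintype.ofFinite _
  have he3 := C.e_ge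
  have hh0 : (h : ℂ) ≠ 0 := by exact_mod_cast (show h ≠ 0 by rw [hcube]; positivity)
  have hcardY : Fintype.card ((H ⧸ center H) →* ℂˣ) = (e + 1) ^ 2 := by
    have h1 := C.card_quot
    rw [hcube, show (e + 1) ^ 3 = (e + 1) ^ 2 * (e + 1) by ring] at h1
    rw [← Nat.card_eq_fintype_card, Cfsg.Lib.Dual.card_hom C.quot_comm]
    exact Nat.eq_of_mul_eq_mul_right (by omega) h1
  set X := (Finset.univ : Finset ((H ⧸ center H) →* ℂˣ)).erase 1 with hX
  have hmemX : ∀ η, η ∈ X ↔ η ≠ 1 := fun η => by simp [hX]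
  have hcardX : X.card = (e + 2) * e := by
    rw [hX, Finset.card_erase_of_mem (Finset.mem_univ _), Finset.card_univ, hcardY,
      show (e + 1) ^ 2 = (e + 2) * e + 1 by ring, Nat.add_sub_cancel]
  set Im := X.image (phi a) with hIm
  have hfib : ∀ η ∈ X, (X.filter fun ν => phi a ν = phi a η).card = e := by
    intro η hη
    have h1 : (X.filter fun ν => phi a ν = phi a η) =
        (Finset.univ : Finset (stab₂ G a b)).image fun k => twist C k η := by
      ext ν
      simp only [Finset.mem_filter, Finset.mem_image, Finset.mem_univ, true_and]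
      refine ⟨fun hν => twist_of_phi_eq C ((hmemX η).mp hη) hν.2, ?_⟩
      rintro ⟨k, rfl⟩
      exact ⟨(hmemX _).mpr (twist_ne_one C k ((hmemX η).mp hη)), phi_eq_of_twist C k rfl⟩
    rw [h1, Finset.card_image_of_injective _ (twist_injective C ((hmemX η).mp hη)), Finset.card_univ,
      ← Nat.card_eq_fintype_card, C.he]
  have hcardI : Im.card = e + 2 := by
    have h1 := Finset.card_eq_sum_card_image (phi a) X
    rw [← hIm, hcardX, Finset.sum_congr rfl (g := fun _ => e) fun f hf => by
      obtain ⟨η, hη, rfl⟩ := Finset.mem_image.mp hf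
      exact hfib η hη, Finset.sum_const, smul_eq_mul] at h1
    exact Nat.eq_of_mul_eq_mul_right (by omega) h1.symm
  -- the family indexed by the induced characters
  let ι := {f : stabilizer G a → ℂ // f ∈ Im}
  have hrep : ∀ i : ι, ∃ η, η ≠ 1 ∧ phi a η = i.1 := fun i => by
    obtain ⟨η, hη, hηi⟩ := Finset.mem_image.mp i.2
    exact ⟨η, (hmemX η).mp hη, hηi⟩
  choose rep hrep1 hrep2 using hrep
  have hcardι : Fintype.card ι = e + 2 := by rw [Fintype.card_coe, hcardI]
  obtain ⟨i₀⟩ : Nonempty ι := Fintype.card_pos_iff.mp (by omega)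
  have hout : ∀ (i : ι) (g : stabilizer G a), (g : G) ∉ H → i.1 g = 0 := fun i g hg => by
    rw [← hrep2 i, phi_out C _ hg]
  have hchar : ∀ i : ι, Cfsg.IsCharacter (stabilizer G a) i.1 := fun i => hrep2 i ▸ phi_gen C _
  have hone : ∀ i : ι, i.1 1 = (e : ℂ) := fun i => by rw [← hrep2 i, phi_one C]
  have horth : ∀ i j : ι, Cfsg.classInner i.1 j.1 = if i = j then 1 else 0 := fun i j => by
    rw [← hrep2 i, ← hrep2 j, phi_inner_eq C (hrep1 j), hrep2, hrep2]
    exact if_congr (by rw [Subtype.ext_iff]) rfl rfl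
  set τ : ι → G → ℂ := fun i => Cfsg.indFun (stabilizer G a) (i.1 - i₀.1) with hτ
  have hd1 : ∀ i : ι, (i.1 - i₀.1) 1 = 0 := fun i => by simp [hone]
  have hdout : ∀ (i : ι) (g : stabilizer G a), (g : G) ∉ H → (i.1 - i₀.1) g = 0 := fun i g hg => by
    simp [hout i g hg, hout i₀ g hg]
  have hdgen : ∀ i : ι, Cfsg.IsGeneralizedCharacter (stabilizer G a) (i.1 - i₀.1) := fun i =>
    ⟨_, _, hchar i, hchar i₀, rfl⟩
  have hdcf : ∀ i : ι, Cfsg.IsClassFunction (stabilizer G a) (i.1 - i₀.1) := fun i g k => by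
    simp only [Pi.sub_apply]
    rw [isClassFunction_isChar (hchar i) g k, isClassFunction_isChar (hchar i₀) g k]
  obtain ⟨ε, hε, μ, hμ, hμinj, hτμ⟩ := Cfsg.Lib.Chars.exists_star (G := G) i₀ τ
    (by simp [hτ, indFun_zero]) (fun i => IsGeneralizedCharacter.indFun (hdgen i))
    (fun i => by simp [hτ, indFun_one, hone]) (fun i j hi hj => by
      have key : Cfsg.classInner (τ i) (τ j) = (if i = j then 1 else 0) + 1 := by
        rw [hτ, C.indFun_phi_isometry (hd1 i) (hdout i) (hdcf j) (hdout j), classInner_sub_left,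
          classInner_sub_right, classInner_sub_right, horth, horth, horth, horth, if_neg hi,
          if_neg (Ne.symm hj), if_pos rfl]
        ring
      constructor
      · intro hij; rw [key, if_pos hij]; norm_num
      · intro hij; rw [key, if_neg hij]; norm_num)
  have hε2 : ε * ε = 1 := by rcases hε with rfl | rfl <;> norm_num
  have hεc : conj ε = ε := by rcases hε with rfl | rfl <;> simp
  set θ := μ i₀ with hθdef
  have hθ := hμ i₀
  obtain ⟨i₁, hi₁⟩ := Fintype.exists_ne_of_one_lt_card (show 1 < Fintype.card ι by omega) i₀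
  -- the character is real
  have hτreal : ∀ i g, conj (τ i g) = τ i g := by
    intro i g
    simp only [hτ, indFun_apply, map_mul, map_inv₀, Complex.conj_natCast, map_sum]
    refine congrArg _ (Finset.sum_congr rfl fun x _ => ?_)
    by_cases hx : x⁻¹ * g * x ∈ stabilizer G a
    · rw [extendByZero_mem _ hx, Pi.sub_apply, map_sub, ← hrep2 i, ← hrep2 i₀, phi_real C, phi_real C]
    · rw [extendByZero_not_mem _ hx, map_zero]
  have hreal : ∀ g, conj (θ g) = θ g := by
    have hne : (⟨μ i₁, hμ i₁⟩ : Cfsg.IrrCharacter G) ≠ ⟨μ i₀, hμ i₀⟩ := fun h' =>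
      hi₁ (hμinj (congrArg Subtype.val h'))
    have h1 : (μ i₁ : G → ℂ) - μ i₀ =
        (fun g => conj (μ i₁ g)) - fun g => conj (μ i₀ g) := by
      have h2 : ∀ g, μ i₁ g - μ i₀ g = ε * τ i₁ g := fun g => by
        rw [hτμ i₁, Pi.smul_apply, smul_eq_mul, ← mul_assoc, hε2, one_mul, Pi.sub_apply]
      funext g
      have h3 := congrArg conj (h2 g)
      rw [map_mul, hεc, hτreal, map_sub] at h3
      simp only [Pi.sub_apply]
      rw [h2, h3]
    have h4 := sub_eq_sub_irr (μ' := ⟨_, IsIrrCharacter.conjugate (hμ i₁)⟩)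
      (ν' := ⟨_, IsIrrCharacter.conjugate (hμ i₀)⟩) hne h1
    exact fun g => congrFun (congrArg Subtype.val h4) g
  have hθcf : Cfsg.IsClassFunction G θ := isClassFunction_isChar (isCharacter_of_irr hθ)
  -- orthogonality to the characters induced from the two-point stabiliser
  obtain ⟨π, hπH, hπE⟩ := exists_retraction C.hZ C.hab C.hh C.hHa C.hHcard C.hHfix
  have hlam : ∀ l : stab₂ G a b →* ℂˣ, ∑ g : stabilizer G a, (l (π g) : ℂ) * θ g = 0 := by
    intro l
    set lam : stabilizer G a → ℂ := fun g => (l (π g) : ℂ) with hlamdef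
    have hlamC : Cfsg.IsCharacter (stabilizer G a) lam := isCharacter_linear (l.comp π)
    set Γ := Cfsg.indFun (stabilizer G a) lam with hΓ
    have hΓC : Cfsg.IsCharacter G Γ := IsCharacter.indFun hlamC
    have hLne : (Nat.card (stabilizer G a) : ℂ) ≠ 0 := by exact_mod_cast Nat.card_pos.ne'
    have hΓH : ∀ u ∈ H, u ≠ 1 → Γ u = 1 := by
      intro u hu hu1
      rw [hΓ, indFun_apply]
      have hterm : ∀ g : G, Cfsg.extendByZero (stabilizer G a) lam (g⁻¹ * u * g) =
          if g ∈ stabilizer G a then 1 else 0 := by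
        intro g
        split_ifs with hg
        · rw [extendByZero_mem _ ((stabilizer G a).mul_mem ((stabilizer G a).mul_mem
            ((stabilizer G a).inv_mem hg) (C.hHa hu)) hg)]
          have h1 := C.normal g⁻¹ ((stabilizer G a).inv_mem hg) u hu
          rw [inv_inv] at h1
          show (l (π ⟨g⁻¹ * u * g, _⟩) : ℂ) = 1
          rw [hπH _ h1, map_one, Units.val_one]
        · refine extendByZero_not_mem _ fun hm => hg (mem_stabilizer_iff.mpr (C.hHfix u hu hu1 _ ?_))
          have hm' := mem_stabilizer_iff.mp hm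
          rwa [mul_smul, mul_smul, inv_smul_eq_iff] at hm'
      rw [Finset.sum_congr rfl fun g _ => hterm g, Finset.sum_boole, ← Fintype.card_subtype,
        ← Nat.card_eq_fintype_card, inv_mul_cancel₀ hLne]
    have hbound : ∀ g : G, ‖Γ g‖ ≤ (nfix (Ω := Ω) g : ℝ) := by
      intro g
      rw [hΓ, indFun_apply, norm_mul, norm_inv, Complex.norm_natCast,
        inv_mul_le_iff₀ (by exact_mod_cast Nat.card_pos)]
      refine (norm_sum_le _ _).trans ?_
      have hterm : ∀ x : G, ‖Cfsg.extendByZero (stabilizer G a) lam (x⁻¹ * g * x)‖ ≤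
          if g • x • a = x • a then 1 else 0 := by
        intro x
        by_cases hx : x⁻¹ * g * x ∈ stabilizer G a
        · have hfix : g • x • a = x • a := by
            have hx' := mem_stabilizer_iff.mp hx
            rwa [mul_smul, mul_smul, inv_smul_eq_iff] at hx'
          rw [extendByZero_mem _ hx, if_pos hfix]
          exact le_of_eq (Complex.norm_eq_one_of_pow_eq_one
            (by rw [← Units.val_pow_eq_pow_val, ← map_pow, pow_card_eq_one', map_one, Units.val_one])
            Nat.card_pos.ne')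
        · rw [extendByZero_not_mem _ hx, norm_zero]
          split_ifs <;> norm_num
      refine (Finset.sum_le_sum fun x _ => hterm x).trans (le_of_eq ?_)
      rw [Finset.sum_boole, ← Nat.cast_mul]
      congr 1
      rw [Finset.card_eq_sum_card_fiberwise (t := Finset.univ.filter fun c : Ω => g • c = c)
        (f := fun x : G => x • a) (fun x hx => by simpa using hx), Finset.sum_congr rfl
        (g := fun _ => Nat.card (stabilizer G a)) fun c hc => ?_, Finset.sum_const, smul_eq_mul,
        mul_comm, nfix]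
      obtain ⟨k, rfl⟩ := exists_map_one C.hZ C.hab a c
      rw [Finset.mem_filter] at hc
      rw [Nat.card_eq_fintype_card, Fintype.card_subtype]
      refine Finset.card_bij' (fun x _ => k⁻¹ * x) (fun x _ => k * x) ?_ ?_ ?_ ?_
      · intro x hx
        simp only [Finset.mem_filter, Finset.mem_univ, true_and] at hx ⊢
        rw [mem_stabilizer_iff, mul_smul, hx.2, inv_smul_smul]
      · intro x hx
        simp only [Finset.mem_filter, Finset.mem_univ, true_and, mem_stabilizer_iff] at hx ⊢
        rw [mul_smul, hx]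
        exact ⟨hc.2, rfl⟩
      · intro x _; simp
      · intro x _; simp
    have hΓnorm : (Cfsg.classInner Γ Γ).re ≤ 2 := by
      rw [classInner_self, Complex.ofReal_re, inv_mul_le_iff₀ (by exact_mod_cast Nat.card_pos)]
      refine (Finset.sum_le_sum (g := fun g : G => ((nfix (Ω := Ω) g * nfix (Ω := Ω) g : ℕ) : ℝ))
        fun g _ => ?_).trans (le_of_eq ?_)
      · push_cast
        rw [sq]
        exact mul_le_mul (hbound g) (hbound g) (norm_nonneg _) (Nat.cast_nonneg _)
      · rw [← Nat.cast_sum, sum_nfix_sq C.hZ C.hab C.hh C.he, ← card_group C.hZ C.hab C.hh C.he]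
        push_cast
        ring
    have heq : ∀ i : ι, Cfsg.classInner Γ (μ i) = Cfsg.classInner Γ (μ i₀) := by
      intro i
      have h1 : Cfsg.classInner Γ (τ i) = 0 := by
        rw [hτ, frobenius_reciprocity' _ _ (isClassFunction_isChar hΓC), classInner_def]
        refine mul_eq_zero.mpr (Or.inr ?_)
        simp only [Pi.sub_apply, map_sub]
        rw [← Equiv.sum_comp C.decomp, Fintype.sum_prod_type,
          Finset.sum_congr rfl (g := fun u : H =>
            (phi a (rep i) ⟨u, C.hHa u.2⟩) - phi a (rep i₀) ⟨u, C.hHa u.2⟩) fun u _ => ?_,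
          Finset.sum_sub_distrib, C.sum_phi (hrep1 i), C.sum_phi (hrep1 i₀), sub_zero]
        rw [Finset.sum_eq_single (1 : stab₂ G a b)]
        · have hd : C.decomp (u, 1) = ⟨u, C.hHa u.2⟩ := Subtype.ext (by rw [C.decomp_coe]; simp)
          rw [hd, ← hrep2 i, ← hrep2 i₀, phi_real C, phi_real C]
          by_cases hu : (u : H) = 1
          · subst hu
            rw [show (⟨((1 : H) : G), C.hHa (1 : H).2⟩ : stabilizer G a) = 1 from rfl, phi_one C,
              phi_one C]
            simp
          · rw [hΓH u u.2 (fun h' => hu (Subtype.ext h')), one_mul]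
        · intro k _ hk
          have hm : ((C.decomp (u, k) : stabilizer G a) : G) ∉ H := by
            rw [C.decomp_coe]
            intro hm
            have hkH : (k : G) ∈ H := by simpa using mul_mem (inv_mem u.2) hm
            exact hk (Subtype.ext (by
              by_contra hne
              exact C.hab (C.hHfix _ hkH hne b k.2.2).symm))
          rw [hout i _ hm, hout i₀ _ hm]
          simp
        · intro h'; exact absurd (Finset.mem_univ _) h'
      rw [hτμ i, classInner_smul_right, classInner_sub_right, hεc] at h1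
      rcases mul_eq_zero.mp h1 with h2 | h2
      · rcases hε with rfl | rfl <;> norm_num at h2
      · exact sub_eq_zero.mp h2
    obtain ⟨m, hm⟩ := IsCharacter.exists_decomp hΓC
    have hm' : Γ = ∑ χ, (m χ : ℂ) • (χ : G → ℂ) := by
      rw [hm]; simp only [Nat.cast_smul_eq_nsmul]
    have hcoef : ∀ i, Cfsg.classInner Γ (μ i) = (m ⟨μ i, hμ i⟩ : ℂ) := fun i => by
      rw [hm']; exact classInner_irrSum (fun χ => (m χ : ℂ)) ⟨μ i, hμ i⟩
    have hm0 : m ⟨μ i₀, hμ i₀⟩ = 0 := by
      rw [hm', classInner_self_decomp] at hΓnorm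
      have h1 : (∑ χ, m χ * m χ : ℕ) ≤ 2 := by
        have h2 : ((∑ χ, m χ * m χ : ℕ) : ℝ) ≤ 2 := by
          simpa using hΓnorm
        exact_mod_cast h2
      have hinj : Function.Injective fun i : ι => (⟨μ i, hμ i⟩ : Cfsg.IrrCharacter G) :=
        fun i j hij => hμinj (congrArg Subtype.val hij)
      have h2 : ∑ χ ∈ (Finset.univ : Finset ι).image (fun i => (⟨μ i, hμ i⟩ : Cfsg.IrrCharacter G)),
          m χ * m χ = (e + 2) * (m ⟨μ i₀, hμ i₀⟩ * m ⟨μ i₀, hμ i₀⟩) := by
        rw [Finset.sum_image fun i _ j _ hij => hinj hij, ← hcardι, ← Finset.card_univ,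
          ← smul_eq_mul, ← Finset.sum_const]
        refine Finset.sum_congr rfl fun i _ => ?_
        have h3 := heq i
        rw [hcoef, hcoef] at h3
        rw [Nat.cast_injective h3]
      have h3 := Finset.sum_le_sum_of_subset (f := fun χ : Cfsg.IrrCharacter G => m χ * m χ)
        (Finset.subset_univ ((Finset.univ : Finset ι).image fun i => (⟨μ i, hμ i⟩ : Cfsg.IrrCharacter G)))
      rw [h2] at h3
      by_contra hne
      nlinarith [Nat.pos_of_ne_zero hne]
    have h5 : Cfsg.classInner Γ θ = 0 := by rw [hθdef, hcoef, hm0, Nat.cast_zero]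
    rw [hΓ, frobenius_reciprocity _ _ hθcf, classInner_def] at h5
    have h6 := (mul_eq_zero.mp h5).resolve_left (inv_ne_zero hLne)
    simpa only [hlamdef, hreal] using h6
  letI : Fintype (stab₂ G a b →* ℂˣ) := Fintype.ofFinite _
  have hEcomm : ∀ x y : stab₂ G a b, x * y = y * x := fun x y => Subtype.ext (C.comm_E x x.2 y y.2)
  have hπd : ∀ (u : H) (k : stab₂ G a b), π (C.decomp (u, k)) = k := by
    intro u k
    have h1 : C.decomp (u, k) = (⟨u, C.hHa u.2⟩ : stabilizer G a) * ⟨k, k.2.1⟩ := Subtype.ext rfl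
    rw [h1, map_mul, hπH _ u.2, one_mul]
    exact Subtype.ext (hπE _ k.2)
  have hS : ∀ k : stab₂ G a b, ∑ u : H, θ ((u : G) * k) = 0 := by
    intro k₀
    have h1 : ∀ l : stab₂ G a b →* ℂˣ,
        ∑ k : stab₂ G a b, (l k : ℂ) * ∑ u : H, θ ((u : G) * k) = 0 := by
      intro l
      have h2 := hlam l
      rw [← Equiv.sum_comp C.decomp, Fintype.sum_prod_type, Finset.sum_comm] at h2
      rw [← h2]
      refine Finset.sum_congr rfl fun k _ => ?_
      rw [Finset.mul_sum]
      exact Finset.sum_congr rfl fun u _ => by rw [hπd, C.decomp_coe]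
    have h3 : ∑ l : stab₂ G a b →* ℂˣ, ((l k₀⁻¹ : ℂˣ) : ℂ) *
        ∑ k : stab₂ G a b, (l k : ℂ) * ∑ u : H, θ ((u : G) * k) = 0 :=
      Finset.sum_eq_zero fun l _ => by rw [h1 l, mul_zero]
    simp only [Finset.mul_sum (s := (Finset.univ : Finset (stab₂ G a b))), ← mul_assoc] at h3
    rw [Finset.sum_comm, Finset.sum_eq_single k₀] at h3
    · simp only [← Units.val_mul, ← map_mul, inv_mul_cancel, map_one, Units.val_one, one_mul,
        Finset.sum_const, Finset.card_univ, nsmul_eq_mul] at h3
      refine (mul_eq_zero.mp h3).resolve_left ?_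
      exact_mod_cast Fintype.card_ne_zero
    · intro k _ hk
      rw [← Finset.sum_mul]
      refine mul_eq_zero.mpr (Or.inl ?_)
      simp only [← Units.val_mul, ← map_mul]
      exact sum_hom_apply hEcomm fun h' => hk (inv_mul_eq_one.mp h').symm
    · intro h'; exact absurd (Finset.mem_univ _) h'
  have hE0 : ∀ g ∈ stab₂ G a b, g ≠ 1 → θ g = 0 := by
    intro g hg hg1
    let f : H → H := fun v => v * (conjH C ⟨g, hg⟩ v)⁻¹
    have hf : Function.Injective f := by
      intro v w hvw
      simp only [f] at hvw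
      have h1 : conjH C ⟨g, hg⟩ (w⁻¹ * v) = w⁻¹ * v := by
        rw [map_mul, map_inv]
        calc (conjH C ⟨g, hg⟩ w)⁻¹ * conjH C ⟨g, hg⟩ v
            = w⁻¹ * (w * (conjH C ⟨g, hg⟩ w)⁻¹) * (v * (conjH C ⟨g, hg⟩ v)⁻¹)⁻¹ * v := by group
          _ = w⁻¹ * v := by rw [hvw]; group
      exact (inv_mul_eq_one.mp (C.conjH_ne (fun h' => hg1 (congrArg Subtype.val h')) h1)).symm
    have h2 : ∀ v : H, θ ((f v : G) * g) = θ g := by
      intro v
      rw [show ((f v : G) * g) = (v : G) * g * (v : G)⁻¹ by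
        simp only [f, Subgroup.coe_mul, Subgroup.coe_inv, conjH_coe]
        group, hθcf g v]
    have h3 := hS ⟨g, hg⟩
    rw [← (Finite.injective_iff_bijective.mp hf).sum_comp, Finset.sum_congr rfl fun v _ => h2 v,
      Finset.sum_const, Finset.card_univ, nsmul_eq_mul, ← Nat.card_eq_fintype_card, C.card_H] at h3
    exact (mul_eq_zero.mp h3).resolve_left hh0
  have hH0 : ∑ u : H, θ u = 0 := by simpa using hS 1
  have hθne : θ ≠ fun _ => 1 := by
    intro h'
    rw [h'] at hH0
    simp only [Finset.sum_const, Finset.card_univ, nsmul_eq_mul, mul_one] at hH0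
    exact absurd hH0 (by exact_mod_cast Fintype.card_ne_zero)
  have hG0 : ∑ g : G, θ g = 0 := by
    have h1 := classInner_irr_ne (χ := (⟨θ, hθ⟩ : Cfsg.IrrCharacter G)) (ψ := principal G)
      (fun h' => hθne (congrArg Subtype.val h'))
    rw [classInner_def] at h1
    have h2 := (mul_eq_zero.mp h1).resolve_left (inv_ne_zero (by exact_mod_cast Nat.card_pos.ne'))
    simpa [principal] using h2
  -- the multiplicities of the linear characters
  set c : ι → ℂ := fun i => Cfsg.classInner (fun g : stabilizer G a => θ g) i.1 with hc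
  have hcnat : ∀ i, ∃ m : ℕ, c i = m := by
    intro i
    have h1 := IsCharacter.restrict (isCharacter_of_irr hθ) (stabilizer G a)
    have h2 : Cfsg.IsIrrCharacter (stabilizer G a) i.1 :=
      isIrrCharacter_of_norm_one (hchar i) (by rw [horth, if_pos rfl])
    exact IsCharacter.exists_mult h1 h2
  have hcdiff : ∀ i, i ≠ i₀ → c i = c i₀ - ε := by
    intro i hi
    have h1 : Cfsg.classInner θ (τ i) = -ε := by
      rw [hτμ i, classInner_smul_right, classInner_sub_right, hεc, hθdef,
        classInner_irrChar (hμ i₀) (hμ i), classInner_irrChar (hμ i₀) (hμ i₀), if_pos rfl,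
        if_neg (fun h' => hi (hμinj h').symm)]
      ring
    rw [hτ, frobenius_reciprocity' _ _ hθcf, classInner_sub_right] at h1
    linear_combination h1
  obtain ⟨α, hα⟩ := hcnat i₁
  obtain ⟨c₀, hc₀⟩ := hcnat i₀
  set εR : ℝ := ε.re with hεR
  have hεcoe : ε = (εR : ℂ) := (Complex.conj_eq_iff_re.mp hεc).symm
  have hεR' : εR = 1 ∨ εR = -1 := by rcases hε with h' | h' <;> simp [hεR, h']
  have hc₀α : (c₀ : ℝ) = α + εR := by
    have h1 := hcdiff i₁ hi₁
    rw [hα, hc₀, hεcoe] at h1
    have h2 : (α : ℝ) = c₀ - εR := by exact_mod_cast h1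
    linarith
  refine ⟨θ, εR, α, X.filter fun ν => phi a ν = i₀.1, hθ, hreal, hεR', ?_, hE0, hG0, hH0, ?_, ?_, ?_⟩
  · rw [add_comm, ← hc₀α]
    exact Nat.cast_nonneg _
  · simp [hX]
  · rw [← hrep2 i₀]
    exact hfib _ ((hmemX _).mpr (hrep1 i₀))
  intro η hη
  obtain ⟨i, hi⟩ : ∃ i : ι, i.1 = phi a η :=
    ⟨⟨phi a η, Finset.mem_image_of_mem _ ((hmemX η).mpr hη)⟩, rfl⟩
  have hci : c i = ((α : ℝ) + if η ∈ X.filter (fun ν => phi a ν = i₀.1) then εR else 0 : ℝ) := by
    by_cases hi0 : i = i₀
    · subst hi0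
      rw [if_pos (Finset.mem_filter.mpr ⟨(hmemX η).mpr hη, hi.symm⟩), hc₀, ← hc₀α]
      norm_cast
    · have hno : η ∉ X.filter (fun ν => phi a ν = i₀.1) := fun h' =>
        hi0 (Subtype.ext (hi.trans (Finset.mem_filter.mp h').2))
      rw [if_neg hno, add_zero,
        hcdiff i hi0, ← hcdiff i₁ hi₁, hα]
      norm_cast
  have hval : c i = (h : ℂ)⁻¹ * ((∑ u : H, (θ u).re * rl η u : ℝ) : ℂ) := by
    simp only [hc]
    rw [hi]
    rw [← classInner_conj_symm, phi_inner_left C (isClassFunction_isChar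
      (IsCharacter.restrict (isCharacter_of_irr hθ) (stabilizer G a))), map_mul, map_inv₀,
      Complex.conj_natCast, map_sum, Complex.ofReal_sum]
    refine congrArg _ (Finset.sum_congr rfl fun u _ => ?_)
    rw [map_mul, Complex.conj_ofReal, Complex.conj_conj, Complex.ofReal_mul,
      Complex.conj_eq_iff_re.mp (hreal u), mul_comm]
  rw [hci] at hval
  have h7 : (h : ℂ) * ((α : ℝ) + if η ∈ X.filter (fun ν => phi a ν = i₀.1) then εR else 0 : ℝ) =
      ((∑ u : H, (θ u).re * rl η u : ℝ) : ℂ) := by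
    rw [hval, mul_inv_cancel_left₀ hh0]
  exact_mod_cast h7.symm

end Cfsg.Lib.ZTGroups
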