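import Cfsg.Agent.ZTGroups.Counting
import Cfsg.Agent.RankOne.StabOrder

/-!
# Centralisers of inverted elements without fixed points
-/

set_option linter.unusedSectionVars false
set_option linter.style.haveILetI false

namespace Cfsg.Lib.ZTGroups

open Subgroup MulAction
open Cfsg.Lib.OddChar.Zassenhaus

universe u v

variable {G : Type u} {Ω : Type v} [Group G] [Fintype G] [MulAction G Ω] [Fintype Ω]
  [IsSimpleGroup G] {a b : Ω} {H : Subgroup G} {h e : ℕ}

/-- Non-central elements of the kernel with the same square agree modulo the centre. -/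
theorem Core.sq_fibre (C : Core a b H h e) (hsq : h = (e + 1) ^ 2) {x y : H} (hx : x ∉ center H)
    (hxy : x * x = y * y) : x⁻¹ * y ∈ center H := by
  classical
  haveI : Fintype H := Fintype.ofFinite _
  set Z1 := Finset.univ.filter fun z : H => z ∈ center H ∧ z ≠ 1 with hZ1
  set S := Finset.univ.filter fun w : H => w ∉ center H with hS
  have hmaps : ∀ w ∈ S, w * w ∈ Z1 := fun w hw => Finset.mem_filter.mpr ⟨Finset.mem_univ _,
    C.sq_central w, fun h' => (Finset.mem_filter.mp hw).2 ((C.center_iff w).mpr h')⟩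
  have hfib : ∀ z ∈ Z1, (S.filter fun w => w * w = z).card = (S.filter fun w => w * w = x * x).card := by
    intro z hz
    obtain ⟨k, hk⟩ := C.center_trans (C.sq_central x) (fun h' => hx ((C.center_iff x).mpr h'))
      (Finset.mem_filter.mp hz).2.1 (Finset.mem_filter.mp hz).2.2
    symm
    refine Finset.card_equiv (conjH C k).toEquiv fun w => ?_
    simp only [hS, Finset.mem_filter, Finset.mem_univ, true_and, MulEquiv.toEquiv_eq_coe, MulEquiv.coe_toEquiv,
      C.center_iff, ← hk]
    rw [← map_mul, EquivLike.apply_eq_iff_eq, MulEquiv.map_eq_one_iff]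
  have hcZ : (Finset.univ.filter fun z : H => z ∈ center H).card = e + 1 := by
    rw [← Fintype.card_subtype, ← Nat.card_eq_fintype_card, ← C.card_center]
  have hZ1card : Z1.card = e := by
    have h1 : Z1 = (Finset.univ.filter fun z : H => z ∈ center H).erase 1 := by
      ext z; simp [hZ1, and_comm]
    rw [h1, Finset.card_erase_of_mem (by simp [one_mem]), hcZ, Nat.add_sub_cancel]
  have hScard : S.card + (e + 1) = h := by
    rw [← hcZ, hS, add_comm, Finset.card_filter_add_card_filter_not, Finset.card_univ,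
      ← Nat.card_eq_fintype_card, C.card_H]
  have h1 := Finset.card_eq_sum_card_fiberwise hmaps
  rw [Finset.sum_congr rfl hfib, Finset.sum_const, hZ1card, smul_eq_mul] at h1
  have hr : (S.filter fun w => w * w = x * x).card = e + 1 := by
    have he := C.e_ge
    refine Nat.eq_of_mul_eq_mul_left (show 0 < e by omega) ?_
    rw [← h1]
    nlinarith
  have hsub : (Finset.univ.filter fun z : H => z ∈ center H).image (fun z => x * z) ⊆
      S.filter fun w => w * w = x * x := by
    intro w hw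
    obtain ⟨z, hz, rfl⟩ := Finset.mem_image.mp hw
    have hz' := (Finset.mem_filter.mp hz).2
    have hzx := mem_center_iff.mp hz' x
    simp only [hS, Finset.mem_filter, Finset.mem_univ, true_and]
    refine ⟨fun hm => hx ((mul_mem_cancel_right hz').mp hm), ?_⟩
    rw [mul_assoc, ← mul_assoc z, ← hzx, mul_assoc x z, (C.center_iff z).mp hz', mul_one]
  have heq := Finset.eq_of_subset_of_card_le hsub (by
    rw [hr, Finset.card_image_of_injective _ fun _ _ h' => mul_left_cancel h', hcZ])
  have hy : y ∈ S.filter fun w => w * w = x * x := by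
    simp only [hS, Finset.mem_filter, Finset.mem_univ, true_and]
    refine ⟨fun hm => hx ((C.center_iff x).mpr ?_), hxy.symm⟩
    rw [hxy, (C.center_iff y).mp hm]
  rw [← heq] at hy
  obtain ⟨z, hz, rfl⟩ := Finset.mem_image.mp hy
  rw [inv_mul_cancel_left]
  exact (Finset.mem_filter.mp hz).2

/-- An element without fixed points inverted by an involution. -/
structure IsInverted (Ω : Type v) [MulAction G Ω] (g s : G) : Prop where
  fpf : ∀ c : Ω, g • c ≠ c
  invol : orderOf s = 2
  inv : s * g * s⁻¹ = g⁻¹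

theorem IsInverted.ne_one {g s : G} (hg : IsInverted Ω g s) (c : Ω) : g ≠ 1 := fun h' =>
  hg.fpf c (by rw [h', one_smul])

theorem Core.semiregular (C : Core a b H h e) {g y : G} (hg : ∀ c : Ω, g • c ≠ c)
    (hy : y ∈ centralizer ({g} : Set G)) (hy1 : y ≠ 1) (c : Ω) : y • c ≠ c := by
  classical
  intro hc
  have hgy : y * g = g * y := mem_centralizer_singleton_iff.mp hy
  have hmove : ∀ d : Ω, y • d = d → y • g • d = g • d := fun d hd => by
    rw [← mul_smul, hgy, mul_smul, hd]
  have hgc := hmove c hc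
  have hggc := hmove _ hgc
  have hfix2 : g • g • c = c := by
    by_contra hne
    exact hy1 (eq_one_of_three C.hZ (hg c).symm hne (hg _) hc hgc hggc)
  obtain ⟨k, hk⟩ := C.odd_of_fpf hg
  refine hg c ?_
  have h1 : (g ^ 2) ^ (k + 1) • c = c := mem_stabilizer_iff.mp (pow_mem (mem_stabilizer_iff.mpr
    (by rw [sq, mul_smul, hfix2])) _)
  rwa [← pow_mul, show 2 * (k + 1) = orderOf g + 1 by omega, pow_add, pow_orderOf_eq_one, one_mul,
    pow_one] at h1

theorem Core.inverts_centralizer (C : Core a b H h e) {g s : G} (hg : IsInverted Ω g s) :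
    ∀ y ∈ centralizer ({g} : Set G), s * y * s⁻¹ = y⁻¹ := by
  refine Cfsg.Lib.RankOne.inverts_of_fpf (mul_self_of_orderOf hg.invol) (fun y hy => ?_) fun y hy hc => ?_
  · have hgy := mem_centralizer_singleton_iff.mp hy
    rw [mem_centralizer_singleton_iff]
    have h1 : s * g⁻¹ * s⁻¹ = g := by
      rw [show s * g⁻¹ * s⁻¹ = (s * g * s⁻¹)⁻¹ by group, hg.inv, inv_inv]
    have h2 : y * g⁻¹ = g⁻¹ * y := (show Commute y g from hgy).inv_right.eq
    calc s * y * s⁻¹ * g = s * y * s⁻¹ * (s * g⁻¹ * s⁻¹) := by rw [h1]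
      _ = s * (y * g⁻¹) * s⁻¹ := by group
      _ = s * (g⁻¹ * y) * s⁻¹ := by rw [h2]
      _ = (s * g⁻¹ * s⁻¹) * (s * y * s⁻¹) := by group
      _ = g * (s * y * s⁻¹) := by rw [h1]
  · obtain ⟨c, hc1, huniq⟩ := C.exists_unique_fix hg.invol
    by_contra hy1
    refine C.semiregular hg.fpf hy hy1 c (huniq _ ?_)
    rw [← mul_smul, hc, mul_smul, hc1]

theorem Core.centralizer_comm (C : Core a b H h e) {g s : G} (hg : IsInverted Ω g s) {x y : G}
    (hx : x ∈ centralizer ({g} : Set G)) (hy : y ∈ centralizer ({g} : Set G)) : x * y = y * x := by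
  have h3 := C.inverts_centralizer hg _ (mul_mem hx hy)
  have h4 : s * (x * y) * s⁻¹ = (s * x * s⁻¹) * (s * y * s⁻¹) := by group
  rw [h3, C.inverts_centralizer hg x hx, C.inverts_centralizer hg y hy, mul_inv_rev] at h4
  have h5 : (y⁻¹ * x⁻¹)⁻¹ = (x⁻¹ * y⁻¹)⁻¹ := by rw [h4]
  simpa [mul_inv_rev] using h5

theorem Core.inverted_of_mem (C : Core a b H h e) {g s y : G} (hg : IsInverted Ω g s)
    (hy : y ∈ centralizer ({g} : Set G)) (hy1 : y ≠ 1) : IsInverted Ω y s :=
  ⟨C.semiregular hg.fpf hy hy1, hg.invol, C.inverts_centralizer hg y hy⟩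

theorem Core.centralizer_eq (C : Core a b H h e) {g s y : G} (hg : IsInverted Ω g s)
    (hy : y ∈ centralizer ({g} : Set G)) (hy1 : y ≠ 1) :
    centralizer ({y} : Set G) = centralizer ({g} : Set G) := by
  have hgy : g ∈ centralizer ({y} : Set G) :=
    mem_centralizer_singleton_iff.mpr (mem_centralizer_singleton_iff.mp hy).symm
  refine le_antisymm (fun x hx => mem_centralizer_singleton_iff.mpr
    (C.centralizer_comm (C.inverted_of_mem hg hy hy1) hx hgy)) fun x hx => ?_
  exact mem_centralizer_singleton_iff.mpr (C.centralizer_comm hg hx hy)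

theorem Core.odd_centralizer (C : Core a b H h e) {g : G} (hg : ∀ c : Ω, g • c ≠ c) :
    Odd (Nat.card (centralizer ({g} : Set G))) := by
  rw [← Nat.not_even_iff_odd]
  intro hev
  haveI : Fact (Nat.Prime 2) := ⟨Nat.prime_two⟩
  obtain ⟨⟨y, hy⟩, hy2⟩ := exists_prime_orderOf_dvd_card' 2 (even_iff_two_dvd.mp hev)
  rw [← Subgroup.orderOf_coe] at hy2
  obtain ⟨c, hc, -⟩ := C.exists_unique_fix hy2
  exact C.semiregular hg hy (fun h' => by simp [h'] at hy2) c hc

theorem Core.centralizer_dvd (C : Core a b H h e) {g : G} (hg : ∀ c : Ω, g • c ≠ c) :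
    Nat.card (centralizer ({g} : Set G)) ∣ h + 1 := by
  classical
  set A := centralizer ({g} : Set G) with hA
  haveI : Fintype A := Fintype.ofFinite _
  have hfree : ∀ c : Ω, MulAction.stabilizer A c = ⊥ := by
    intro c
    rw [eq_bot_iff]
    intro y hy
    rw [Subgroup.mem_bot]
    by_contra hy1
    exact C.semiregular hg y.2 (fun h' => hy1 (Subtype.ext h')) c hy
  refine ⟨Nat.card (MulAction.orbitRel.Quotient A Ω), ?_⟩
  rw [← C.hh, ← Nat.card_eq_fintype_card,
    Nat.card_congr (MulAction.selfEquivSigmaOrbitsQuotientStabilizer A Ω), Nat.card_sigma]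
  rw [Finset.sum_congr rfl (g := fun _ => Nat.card A) fun ω _ => ?_, Finset.sum_const, Finset.card_univ,
    ← Nat.card_eq_fintype_card, smul_eq_mul, mul_comm]
  rw [hfree, Nat.card_congr (QuotientGroup.quotientBot (G := A)).toEquiv]

theorem Core.five_le (C : Core a b H h e) (hsq : h = (e + 1) ^ 2) {g s : G} (hg : IsInverted Ω g s) :
    5 ≤ Nat.card (centralizer ({g} : Set G)) := by
  have h1 : 1 < Nat.card (centralizer ({g} : Set G)) :=
    Finite.one_lt_card_iff_nontrivial.mpr ⟨⟨g, mem_centralizer_singleton_iff.mpr rfl⟩, 1,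
      fun h' => hg.ne_one a (congrArg Subtype.val h')⟩
  obtain ⟨k, hk⟩ := C.odd_centralizer hg.fpf
  by_contra hlt
  have h3 : Nat.card (centralizer ({g} : Set G)) = 3 := by omega
  have h4 := C.centralizer_dvd hg.fpf
  rw [h3, hsq] at h4
  have h5 : ∀ r : ℕ, r < 3 → (r ^ 2 + 1) % 3 ≠ 0 := by decide
  have h6 := h5 ((e + 1) % 3) (Nat.mod_lt _ (by norm_num))
  apply h6
  have h7 := Nat.mod_eq_zero_of_dvd h4
  rw [Nat.add_mod, Nat.pow_mod] at h7
  rw [Nat.add_mod]
  exact h7

theorem Core.sylow_le (C : Core a b H h e) {g s : G} (hg : IsInverted Ω g s) {p : ℕ} [Fact p.Prime]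
    (hp : p ∣ Nat.card (centralizer ({g} : Set G))) :
    ∃ P : Sylow p G, (P : Subgroup G) ≠ ⊥ ∧ (P : Subgroup G) ≤ centralizer ({g} : Set G) := by
  obtain ⟨⟨x, hx⟩, hxo⟩ := exists_prime_orderOf_dvd_card' p hp
  rw [← Subgroup.orderOf_coe] at hxo
  have hx1 : x ≠ 1 := fun h' => by
    simp only [h', orderOf_one] at hxo
    exact (Fact.out : p.Prime).one_lt.ne hxo
  have hpg : IsPGroup p (zpowers x) := IsPGroup.of_card (n := 1) (by rw [Nat.card_zpowers, hxo, pow_one])
  obtain ⟨P, hP⟩ := hpg.exists_le_sylow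
  have hxP : x ∈ (P : Subgroup G) := hP (mem_zpowers x)
  haveI : Nontrivial (P : Subgroup G) := ⟨⟨x, hxP⟩, 1, fun h' => hx1 (congrArg Subtype.val h')⟩
  haveI := P.2.center_nontrivial
  obtain ⟨⟨⟨y, hyP⟩, hyc⟩, hy1⟩ := exists_ne (1 : center (P : Subgroup G))
  have hy1' : y ≠ 1 := fun h' => hy1 (Subtype.ext (Subtype.ext h'))
  have hcomm : ∀ z ∈ (P : Subgroup G), z * y = y * z := fun z hz =>
    congrArg Subtype.val (mem_center_iff.mp hyc ⟨z, hz⟩)
  have hyA : y ∈ centralizer ({g} : Set G) := by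
    rw [← C.centralizer_eq hg hx hx1]
    exact mem_centralizer_singleton_iff.mpr (hcomm x hxP).symm
  refine ⟨P, fun h' => hx1 (by rw [h', mem_bot] at hxP; exact hxP), fun z hz => ?_⟩
  rw [← C.centralizer_eq hg hyA hy1']
  exact mem_centralizer_singleton_iff.mpr (hcomm z hz)

/-- The normaliser of such a centraliser. -/
theorem Core.card_normalizer (C : Core a b H h e) (hsq : h = (e + 1) ^ 2) {g s : G}
    (hg : IsInverted Ω g s) :
    ∃ β : ℕ, (β = 2 ∨ β = 4) ∧
      Nat.card (normalizer (centralizer ({g} : Set G) : Set G)) =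
        Nat.card (centralizer ({g} : Set G)) * β := by
  classical
  set A := centralizer ({g} : Set G) with hA
  set N := normalizer (A : Set G) with hN
  have hinv := C.inverts_centralizer hg
  have hodd := C.odd_centralizer hg.fpf
  have hs2 := mul_self_of_orderOf hg.invol
  have hs1 : s ≠ 1 := fun h' => by have := hg.invol; rw [h', orderOf_one] at this; omega
  have hgA : g ∈ A := mem_centralizer_singleton_iff.mpr rfl
  have hAfix : ∀ y ∈ A, s * y = y * s → y = 1 := by
    intro y hy hc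
    have h1 : y = y⁻¹ := by
      rw [← hinv y hy, hc, mul_inv_cancel_right]
    have h2 : orderOf y ∣ 2 := orderOf_dvd_of_pow_eq_one (by
      rw [sq]; exact mul_eq_one_iff_eq_inv.mpr h1)
    have h3 : orderOf y ∣ Nat.card A := Subgroup.orderOf_mk y hy ▸ orderOf_dvd_natCard _
    exact orderOf_eq_one_iff.mp
      (Nat.eq_one_of_dvd_coprimes (Nat.prime_two.coprime_iff_not_dvd.mpr hodd.not_two_dvd_nat) h2 h3)
  have hsN : s ∈ N := mem_normalizer_fintype fun y hy => by
    show s * y * s⁻¹ ∈ A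
    rw [hinv y hy]; exact inv_mem hy
  set B := N ⊓ centralizer ({s} : Set G) with hB
  -- the normaliser is the product of `A` and `B`
  have hAN : A ≤ N := Subgroup.le_normalizer
  have hprod : Nat.card N = Nat.card A * Nat.card B := by
    rw [← Nat.card_prod]
    refine (Nat.card_eq_of_bijective (fun p : A × B => (⟨(p.1 : G) * p.2, mul_mem (hAN p.1.2) p.2.2.1⟩ : N))
      ⟨fun p p' hpp => ?_, fun n => ?_⟩).symm
    · have h1 : (p.1 : G) * p.2 = p'.1 * p'.2 := congrArg Subtype.val hpp
      have h2 : ((p'.1 : G)⁻¹ * p.1) = (p'.2 : G) * (p.2 : G)⁻¹ := by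
        calc ((p'.1 : G)⁻¹ * p.1) = (p'.1 : G)⁻¹ * ((p.1 : G) * p.2) * (p.2 : G)⁻¹ := by group
          _ = _ := by rw [h1]; group
      have h3 : ((p'.1 : G)⁻¹ * p.1) = 1 := by
        refine hAfix _ (mul_mem (inv_mem p'.1.2) p.1.2) ?_
        rw [h2]
        exact (mem_centralizer_singleton_iff.mp (mul_mem p'.2.2.2 (inv_mem p.2.2.2))).symm
      rw [h3] at h2
      exact Prod.ext (Subtype.ext (inv_mul_eq_one.mp h3).symm)
        (Subtype.ext (mul_inv_eq_one.mp h2.symm).symm)
    · obtain ⟨n, hn⟩ := n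
      set t := n * s * n⁻¹ with ht
      have htinv : ∀ y ∈ A, t * y * t⁻¹ = y⁻¹ := by
        intro y hy
        have h1 : n⁻¹ * y * n ∈ A := (Subgroup.mem_normalizer_iff''.mp hn y).mp hy
        calc t * y * t⁻¹ = n * (s * (n⁻¹ * y * n) * s⁻¹) * n⁻¹ := by rw [ht]; group
          _ = y⁻¹ := by rw [hinv _ h1]; group
      have hx : t * s ∈ A := by
        rw [hA, mem_centralizer_singleton_iff]
        have h1 : t * g⁻¹ * t⁻¹ = g := by rw [htinv _ (inv_mem hgA), inv_inv]
        calc t * s * g = t * (s * g * s⁻¹) * s := by group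
          _ = t * g⁻¹ * t⁻¹ * (t * s) := by rw [hg.inv]; group
          _ = g * (t * s) := by rw [h1]
      obtain ⟨k, hk⟩ := hodd
      set z := (t * s) ^ (k + 1) with hz
      have hzA : z ∈ A := pow_mem hx _
      have hzz : z * z = t * s := by
        have h1 : (t * s) ^ Nat.card A = 1 :=
          congrArg Subtype.val (pow_card_eq_one' (x := (⟨t * s, hx⟩ : A)))
        rw [hz, ← pow_add, show k + 1 + (k + 1) = Nat.card A + 1 by rw [hA]; omega, pow_add, h1, one_mul, pow_one]
      refine ⟨(⟨z, hzA⟩, ⟨z⁻¹ * n, mul_mem (hAN (inv_mem hzA)) hn, ?_⟩), Subtype.ext (mul_inv_cancel_left z n)⟩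
      show z⁻¹ * n ∈ centralizer ({s} : Set G)
      rw [mem_centralizer_singleton_iff]
      have h2 : s * z⁻¹ * s⁻¹ = z := by rw [hinv _ (inv_mem hzA), inv_inv]
      have h2' : z⁻¹ = s * z * s⁻¹ := by rw [hinv z hzA]
      calc z⁻¹ * n * s = z⁻¹ * t * n := by rw [ht]; group
        _ = z⁻¹ * (t * s) * s⁻¹ * n := by group
        _ = z * s⁻¹ * n := by rw [← hzz]; group
        _ = s * (s * z * s⁻¹) * n := by
          rw [show s * (s * z * s⁻¹) = (s * s) * z * s⁻¹ by group, hs2, one_mul]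
        _ = s * (z⁻¹ * n) := by rw [← h2', mul_assoc]
  refine ⟨Nat.card B, ?_, hprod⟩
  -- `B` lies in the centraliser of `s`, a conjugate of the kernel
  obtain ⟨c, hc, huniq⟩ := C.exists_unique_fix hg.invol
  obtain ⟨k, hka, hkH⟩ := C.conj_mem_H hc huniq
  have hsB : s ∈ B := ⟨hsN, mem_centralizer_singleton_iff.mpr rfl⟩
  have hBH : ∀ x ∈ B, k⁻¹ * x * k ∈ H := by
    intro x hx
    have hxs := mem_centralizer_singleton_iff.mp hx.2
    refine C.cent_le hkH (fun h' => hs1 (by
      calc s = k * (k⁻¹ * s * k) * k⁻¹ := by group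
        _ = 1 := by rw [h']; group)) ?_
    rw [mem_centralizer_singleton_iff]
    calc k⁻¹ * x * k * (k⁻¹ * s * k) = k⁻¹ * (x * s) * k := by group
      _ = k⁻¹ * s * k * (k⁻¹ * x * k) := by rw [hxs]; group
  have hinvol : ∀ x ∈ B, x * x = 1 → x = 1 ∨ x = s := by
    intro x hx hx2
    by_cases hx1 : x = 1
    · exact Or.inl hx1
    right
    obtain ⟨c', hc', huniq'⟩ := C.exists_unique_fix (orderOf_eq_two hx1 hx2)
    have hxinv := Cfsg.Lib.RankOne.inverts_of_fpf hx2
      (fun y hy => (Subgroup.mem_normalizer_iff.mp hx.1 y).mp hy) fun y hy hcy => by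
        by_contra hy1
        refine C.semiregular hg.fpf hy hy1 c' (huniq' _ ?_)
        rw [← mul_smul, hcy, mul_smul, hc']
    have hxs : x * s ∈ A := by
      rw [hA, mem_centralizer_singleton_iff]
      calc x * s * g = x * (s * g * s⁻¹) * s := by group
        _ = (x * g⁻¹ * x⁻¹) * (x * s) := by rw [hg.inv]; group
        _ = g * (x * s) := by rw [hxinv _ (inv_mem hgA), inv_inv]
    have hc2 := mem_centralizer_singleton_iff.mp hx.2
    have h1 := hAfix _ hxs (by rw [← mul_assoc, ← hc2])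
    calc x = x * s * s := by rw [mul_assoc, hs2, mul_one]
      _ = s := by rw [h1, one_mul]
  have hsq' : ∀ x, ∀ hx : x ∈ B, x ≠ 1 → x ≠ s → x * x = s ∧ (⟨_, hBH x hx⟩ : H) ∉ center H := by
    intro x hx hx1 hxs
    have hnot : x * x ≠ 1 := fun h' => by
      rcases hinvol x hx h' with h'' | h''
      · exact hx1 h''
      · exact hxs h''
    refine ⟨?_, fun hm => hnot ?_⟩
    · have h1 := C.sq_central ⟨_, hBH x hx⟩
      have h2 : k⁻¹ * x * k * (k⁻¹ * x * k) * (k⁻¹ * x * k * (k⁻¹ * x * k)) = 1 :=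
        congrArg Subtype.val ((C.center_iff _).mp h1)
      have h3 : (x * x) * (x * x) = 1 := by
        calc (x * x) * (x * x) = k * (k⁻¹ * x * k * (k⁻¹ * x * k) * (k⁻¹ * x * k * (k⁻¹ * x * k))) * k⁻¹ := by group
          _ = 1 := by rw [h2]; group
      exact (hinvol _ (mul_mem hx hx) h3).resolve_left hnot
    · have h2 : k⁻¹ * x * k * (k⁻¹ * x * k) = 1 := congrArg Subtype.val ((C.center_iff _).mp hm)
      calc x * x = k * (k⁻¹ * x * k * (k⁻¹ * x * k)) * k⁻¹ := by group
        _ = 1 := by rw [h2]; group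
  haveI : Fintype B := Fintype.ofFinite _
  have hle4 : Nat.card B ≤ 4 := by
    by_cases hex : ∃ x ∈ B, x ≠ 1 ∧ x ≠ s
    · obtain ⟨x, hx, hx1, hxs⟩ := hex
      have hsub : (Finset.univ : Finset B).image Subtype.val ⊆ ({1, s, x, x * s} : Finset G) := by
        intro y hy
        obtain ⟨⟨y, hyB⟩, -, rfl⟩ := Finset.mem_image.mp hy
        simp only [Finset.mem_insert, Finset.mem_singleton]
        by_cases hy1 : y = 1
        · exact Or.inl hy1
        by_cases hys : y = s
        · exact Or.inr (Or.inl hys)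
        obtain ⟨hxx, hxc⟩ := hsq' x hx hx1 hxs
        obtain ⟨hyy, -⟩ := hsq' y hyB hy1 hys
        have h1 := C.sq_fibre hsq hxc (y := ⟨_, hBH y hyB⟩) (Subtype.ext (by
          show k⁻¹ * x * k * (k⁻¹ * x * k) = k⁻¹ * y * k * (k⁻¹ * y * k)
          calc k⁻¹ * x * k * (k⁻¹ * x * k) = k⁻¹ * (x * x) * k := by group
            _ = k⁻¹ * (y * y) * k := by rw [hxx, hyy]
            _ = _ := by group))
        have h2 : (k⁻¹ * x * k)⁻¹ * (k⁻¹ * y * k) * ((k⁻¹ * x * k)⁻¹ * (k⁻¹ * y * k)) = 1 :=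
          congrArg Subtype.val ((C.center_iff _).mp h1)
        have h3 : (x⁻¹ * y) * (x⁻¹ * y) = 1 := by
          calc (x⁻¹ * y) * (x⁻¹ * y) = k * ((k⁻¹ * x * k)⁻¹ * (k⁻¹ * y * k) * ((k⁻¹ * x * k)⁻¹ * (k⁻¹ * y * k))) * k⁻¹ := by group
            _ = 1 := by rw [h2]; group
        rcases hinvol _ (mul_mem (inv_mem hx) hyB) h3 with h' | h'
        · exact Or.inr (Or.inr (Or.inl (inv_mul_eq_one.mp h').symm))
        · exact Or.inr (Or.inr (Or.inr (inv_mul_eq_iff_eq_mul.mp h')))
      have h4 := Finset.card_le_card hsub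
      rw [Finset.card_image_of_injective _ Subtype.val_injective, Finset.card_univ,
        ← Nat.card_eq_fintype_card] at h4
      exact h4.trans Finset.card_le_four
    · push Not at hex
      have hsub : (Finset.univ : Finset B).image Subtype.val ⊆ ({1, s} : Finset G) := by
        intro y hy
        obtain ⟨⟨y, hyB⟩, -, rfl⟩ := Finset.mem_image.mp hy
        simp only [Finset.mem_insert, Finset.mem_singleton]
        by_cases hy1 : y = 1
        · exact Or.inl hy1
        · exact Or.inr (hex y hyB hy1)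
      have h4 := Finset.card_le_card hsub
      rw [Finset.card_image_of_injective _ Subtype.val_injective, Finset.card_univ,
        ← Nat.card_eq_fintype_card] at h4
      exact (h4.trans Finset.card_le_two).trans (by norm_num)
  have h2B : 2 ∣ Nat.card B := by
    have h5 := orderOf_dvd_natCard (⟨s, hsB⟩ : B)
    rwa [← Subgroup.orderOf_coe, hg.invol] at h5
  have hpos : 0 < Nat.card B := Nat.card_pos
  obtain ⟨m, hm⟩ := h2B
  rw [hm] at hle4 hpos ⊢
  omega

end Cfsg.Lib.ZTGroups
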